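import Cfsg.Agent.Lib.RootSub.Chain
import Cfsg.Agent.Lib.Invol.Basic

/-!
# Root involutions with an invariant partition containing the commuting relation

The classes ("blocks") of such a relation are joined by products of odd order.  An involution outside
`D` commutes with members of two blocks when only the identity fixes every block, and then the product
of two commuting members is a member.
-/

set_option autoImplicit false

namespace CfsgLib.RootInvol

variable {G : Type*} [Group G] {D : Set G} {R : G → G → Prop}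

/-- An invariant equivalence on `D` containing commuting, with at least two classes. -/
structure IsBlockRel (D : Set G) (R : G → G → Prop) : Prop where
  refl : ∀ {a}, a ∈ D → R a a
  symm : ∀ {a b}, R a b → R b a
  trans : ∀ {a b c}, R a b → R b c → R a c
  conj : ∀ (g : G) {a b}, R a b → R (g * a * g⁻¹) (g * b * g⁻¹)
  of_commute : ∀ {a b}, a ∈ D → b ∈ D → a * b = b * a → R a b
  ne_univ : ∃ a ∈ D, ∃ b ∈ D, ¬ R a b

/-- Root involutions with blocks, in which commuting members multiply into `D` and every member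
commutes with another one. -/
structure IsBlockSystem (D : Set G) (R : G → G → Prop) : Prop where
  root : Cfsg.IsRootInvolutionSet D
  rel : IsBlockRel D R
  prod : ∀ {a b}, a ∈ D → b ∈ D → a ≠ b → a * b = b * a → a * b ∈ D
  partner : ∀ {a}, a ∈ D → ∃ b ∈ D, b ≠ a ∧ a * b = b * a

/-- Only the identity fixes every block. -/
def IsFaithfulBlocks (D : Set G) (R : G → G → Prop) : Prop :=
  ∀ g : G, (∀ a ∈ D, R (g * a * g⁻¹) a) → g = 1

/-- `i` commutes with members of two different blocks. -/
def TwoBlocks (D : Set G) (R : G → G → Prop) (i : G) : Prop :=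
  ∃ a ∈ D, ∃ b ∈ D, ¬ R a b ∧ i * a = a * i ∧ i * b = b * i

private theorem conj_mul {g x y : G} : g * x * g⁻¹ * (g * y * g⁻¹) = g * (x * y) * g⁻¹ := by
  group

theorem conj_comm_iff {a b : G} (g : G) :
    g * a * g⁻¹ * (g * b * g⁻¹) = g * b * g⁻¹ * (g * a * g⁻¹) ↔ a * b = b * a := by
  rw [conj_mul, conj_mul]
  exact ⟨fun h => mul_left_cancel (mul_right_cancel h), fun h => by rw [h]⟩

namespace IsBlockRel

variable (hR : IsBlockRel D R)
include hR

/-- The stabiliser of the block of `e`. -/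
def stab (e : G) (he : e ∈ D) : Subgroup G where
  carrier := {g | R (g * e * g⁻¹) e}
  one_mem' := by simpa using hR.refl he
  mul_mem' {g h} hg hh := by
    have := hR.trans (hR.conj g hh) hg
    simpa [mul_assoc] using this
  inv_mem' {g} hg := by
    have := hR.symm (hR.conj g⁻¹ hg)
    simpa [mul_assoc] using this

theorem mem_stab {e g : G} (he : e ∈ D) : g ∈ hR.stab e he ↔ R (g * e * g⁻¹) e := Iff.rfl

/-- A member of the block of `e` fixes that block. -/
theorem mem_stab_of_rel {e a : G} (he : e ∈ D) (h : R a e) : a ∈ hR.stab e he := by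
  have h1 := hR.conj a (hR.symm h)
  rw [mul_inv_cancel_right] at h1
  exact hR.trans h1 h

theorem exists_not_rel {a : G} (ha : a ∈ D) : ∃ b ∈ D, ¬ R a b := by
  obtain ⟨p, hp, q, hq, hpq⟩ := hR.ne_univ
  by_cases h : R a p
  · exact ⟨q, hq, fun h' => hpq (hR.trans (hR.symm h) h')⟩
  · exact ⟨p, hp, h⟩

theorem rel_of_four (hD : Cfsg.IsRootInvolutionSet D) {a b : G} (ha : a ∈ D) (hb : b ∈ D)
    (h : orderOf (a * b) = 4) : R a b := by
  obtain ⟨hc, c1, c2, -, -, -⟩ := four_facts hD ha hb h
  exact hR.trans (hR.of_commute ha hc c1.eq) (hR.symm (hR.of_commute hb hc c2.eq))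

theorem cross_odd (hD : Cfsg.IsRootInvolutionSet D) {a b : G} (ha : a ∈ D) (hb : b ∈ D)
    (h : ¬ R a b) : Cfsg.OddAdj D a b := by
  by_contra hno
  exact h (hR.rel_of_four hD ha hb (four_of hD ha hb (fun hc => h (hR.of_commute ha hb hc)) hno))

theorem isRootInvolutionClass (hD : Cfsg.IsRootInvolutionSet D) : Cfsg.IsRootInvolutionClass D := by
  obtain ⟨p, hp, -⟩ := hR.ne_univ
  refine ⟨hD, ⟨p, hp⟩, fun a ha b hb => ?_⟩
  obtain ⟨c, hc, hac⟩ := hR.exists_not_rel ha
  by_cases h : R a b
  · obtain ⟨g, rfl⟩ := conj_of_odd hD ha hc (hR.cross_odd hD ha hc hac).2.2.2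
    obtain ⟨k, rfl⟩ := conj_of_odd hD hc hb
      (hR.cross_odd hD hc hb fun h' => hac (hR.trans h (hR.symm h'))).2.2.2
    exact ⟨k * g, by group⟩
  · exact conj_of_odd hD ha hb (hR.cross_odd hD ha hb h).2.2.2

theorem oddConnected (hD : Cfsg.IsRootInvolutionSet D) :
    Cfsg.IsConnectedSet (Cfsg.OddAdj D) D := by
  intro a ha b hb
  obtain ⟨c, hc, hac⟩ := hR.exists_not_rel ha
  by_cases h : R a b
  · exact (Relation.ReflTransGen.single (hR.cross_odd hD ha hc hac)).tail
      (hR.cross_odd hD hc hb fun h' => hac (hR.trans h (hR.symm h')))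
  · exact .single (hR.cross_odd hD ha hb h)

/-- A member fixes no block but its own. -/
theorem rel_of_fix (hD : Cfsg.IsRootInvolutionSet D) {u e : G} (hu : u ∈ D) (he : e ∈ D)
    (h : R (u * e * u⁻¹) e) : R u e := by
  rcases hD.pair e he u hu with hc | hodd | ⟨h4, -⟩
  · exact hR.symm (hR.of_commute he hu hc)
  · obtain ⟨g, hg, hgu⟩ :=
      CfsgLib.Invol.exists_conj_eq_of_odd (hD.orderOf_eq e he) (hD.orderOf_eq u hu) hodd
    have hw : (e * u) ^ 2 ∈ hR.stab e he := by
      have e2 : (e * u) ^ 2 = e * (u * e * u⁻¹) * (u * u) := by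
        rw [pow_two]; group
      rw [e2, mul_self hD hu, mul_one]
      exact mul_mem (hR.mem_stab_of_rel he (hR.refl he)) (hR.mem_stab_of_rel he h)
    obtain ⟨m, hm⟩ := hodd
    have hmem : e * u ∈ hR.stab e he := by
      have : ((e * u) ^ 2) ^ (m + 1) = e * u := by
        rw [← pow_mul, show 2 * (m + 1) = orderOf (e * u) + 1 by omega, pow_succ,
          pow_orderOf_eq_one, one_mul]
      rw [← this]
      exact pow_mem hw _
    have := (hR.mem_stab he).1 ((Subgroup.zpowers_le.2 hmem) hg)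
    rwa [hgu] at this
  · exact hR.symm (hR.rel_of_four hD he hu h4)

theorem twoBlocks_conj (hD : Cfsg.IsRootInvolutionSet D) {i : G} (h : TwoBlocks D R i) (g : G) :
    TwoBlocks D R (g * i * g⁻¹) := by
  obtain ⟨a, ha, b, hb, hab, ca, cb⟩ := h
  refine ⟨_, hD.conj_mem a ha g, _, hD.conj_mem b hb g, fun h' => hab ?_,
    (conj_comm_iff g).2 ca, (conj_comm_iff g).2 cb⟩
  have := hR.conj g⁻¹ h'
  simpa [mul_assoc] using this

theorem conj_in_centralizer_of_not_rel (hD : Cfsg.IsRootInvolutionSet D) {i a b : G} (ha : a ∈ D)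
    (hb : b ∈ D) (ca : i * a = a * i) (cb : i * b = b * i) (h : ¬ R a b) :
    ∃ g : G, Commute g i ∧ g * a * g⁻¹ = b := by
  obtain ⟨g, hg, hgb⟩ := CfsgLib.Invol.exists_conj_eq_of_odd (hD.orderOf_eq a ha)
    (hD.orderOf_eq b hb) (hR.cross_odd hD ha hb h).2.2.2
  obtain ⟨k, rfl⟩ := Subgroup.mem_zpowers_iff.1 hg
  exact ⟨_, ((Commute.mul_left (show Commute a i from ca.symm) cb.symm).zpow_left k), hgb⟩

/-- The members commuting with `i` are conjugate in its centraliser when they meet two blocks. -/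
theorem conj_in_centralizer (hD : Cfsg.IsRootInvolutionSet D) {i a b : G} (h : TwoBlocks D R i)
    (ha : a ∈ D) (hb : b ∈ D) (ca : i * a = a * i) (cb : i * b = b * i) :
    ∃ g : G, Commute g i ∧ g * a * g⁻¹ = b := by
  by_cases hab : R a b
  · obtain ⟨p, hp, q, hq, hpq, cp, cq⟩ := h
    obtain ⟨c, hc, cc, hac⟩ : ∃ c ∈ D, i * c = c * i ∧ ¬ R a c := by
      by_cases hap : R a p
      · exact ⟨q, hq, cq, fun h' => hpq (hR.trans (hR.symm hap) h')⟩
      · exact ⟨p, hp, cp, hap⟩
    obtain ⟨g, hg, rfl⟩ := hR.conj_in_centralizer_of_not_rel hD ha hc ca cc hac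
    obtain ⟨k, hk, rfl⟩ := hR.conj_in_centralizer_of_not_rel hD hc hb cc cb
      fun h' => hac (hR.trans hab (hR.symm h'))
    exact ⟨k * g, hk.mul_left hg, by group⟩
  · exact hR.conj_in_centralizer_of_not_rel hD ha hb ca cb hab

/-- An involution outside `D` moving the block of `e` splits as `z u` with `z` in two blocks. -/
theorem move_split [Finite G] (hD : Cfsg.IsRootInvolutionSet D) {i e : G} (hi : orderOf i = 2)
    (hiD : i ∉ D) (he : e ∈ D) (hmove : ¬ R (i * e * i⁻¹) e) :
    ∃ z u : G, orderOf z = 2 ∧ z ∉ D ∧ u ∈ D ∧ z * u = u * z ∧ i = z * u ∧ TwoBlocks D R z := by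
  have si := CfsgLib.Invol.invol_mul_self hi
  have ii := CfsgLib.Invol.invol_inv hi
  have he' := hD.conj_mem e he i
  have hodd := (hR.cross_odd hD he' he hmove).2.2.2
  set a := i * e with hadef
  have hsq : a ^ 2 = i * e * i⁻¹ * e := by rw [ii, pow_two]; simp only [hadef, mul_assoc]
  rw [← hsq] at hodd
  set l := orderOf (a ^ 2) with hl
  have h2l : a ^ (2 * l) = 1 := by rw [pow_mul, hl, pow_orderOf_eq_one]
  have hal : a ^ l ≠ 1 := fun h => by
    obtain ⟨g, -, hg⟩ := CfsgLib.Invol.exists_conj_eq_of_odd (hD.orderOf_eq e he) hi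
      (show Odd (orderOf (e * i)) by
        rw [show orderOf (e * i) = orderOf a by
          rw [← orderOf_inv a, mul_inv_rev, ii, inv_eq hD he]]
        exact hodd.of_dvd_nat (orderOf_dvd_of_pow_eq_one h))
    exact hiD (hg ▸ hD.conj_mem e he g)
  set z := a ^ l with hz
  have z1 : z * z = 1 := by rw [hz, ← pow_add, ← two_mul, h2l]
  have zo : orderOf z = 2 := CfsgLib.Invol.invol_iff.2 ⟨z1, hal⟩
  have zi := CfsgLib.Invol.invol_inv zo
  have hinv : ∀ y : G, y * a * y⁻¹ = a⁻¹ → z * y = y * z := fun y hy => by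
    have : y * z * y⁻¹ = z := by rw [hz, ← conj_pow, hy, inv_pow, ← hz, zi]
    exact (mul_inv_eq_iff_eq_mul.1 this).symm
  have ze : z * e = e * z := hinv e (CfsgLib.Invol.invol_conj_mul' hi (hD.orderOf_eq e he))
  have zi' : z * i = i * z := hinv i (CfsgLib.Invol.invol_conj_mul hi (hD.orderOf_eq e he))
  have hzD : z ∉ D := fun h => hmove (hR.trans (hR.symm (hR.of_commute h he' (by
    rw [ii]
    exact ((Commute.mul_right (Commute.mul_right zi' ze) zi')).eq)))
    (hR.of_commute h he ze))
  have huD : z * i ∈ D := by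
    have hne : z * i ≠ 1 := fun h => hmove (by
      have hiz : i = z := by rw [← zi]; exact (inv_eq_of_mul_eq_one_right h).symm
      rw [hadef, hiz, ze, mul_inv_cancel_right]
      exact hR.refl he)
    have hz2 : orderOf (z * i) = 2 := CfsgLib.Invol.invol_iff.2
      ⟨by rw [mul_assoc, ← mul_assoc i z, ← zi', mul_assoc z i i, si, mul_one, z1], hne⟩
    obtain ⟨g, -, hg⟩ := CfsgLib.Invol.exists_conj_eq_of_odd (hD.orderOf_eq e he) hz2
      (show Odd (orderOf (e * (z * i))) by
        refine hodd.of_dvd_nat (orderOf_dvd_of_pow_eq_one ?_)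
        have hc : Commute z (e * i) := Commute.mul_right ze zi'
        rw [← mul_assoc, ← ze, mul_assoc, hc.mul_pow,
          show e * i = a⁻¹ by rw [mul_inv_rev, ii, inv_eq hD he], inv_pow, ← hz, zi]
        obtain ⟨m, hm⟩ := hodd
        rw [hm, pow_succ, pow_mul, pow_two, z1, one_pow, one_mul, z1])
    exact hg ▸ hD.conj_mem e he g
  refine ⟨z, z * i, zo, hzD, huD, ?_, by rw [← mul_assoc, z1, one_mul],
    _, he', e, he, hmove, ?_, ze⟩
  · show Commute z (z * i)
    exact Commute.mul_right (Commute.refl z) zi'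
  · rw [ii]
    exact (Commute.mul_right (Commute.mul_right zi' ze) zi').eq

variable (hf : IsFaithfulBlocks D R)
include hf

omit hR in
theorem exists_moved {g : G} (hg : g ≠ 1) : ∃ e ∈ D, ¬ R (g * e * g⁻¹) e := by
  by_contra h
  push Not at h
  exact hg (hf g h)

/-- **Every involution outside `D` commutes with members of two blocks.** -/
theorem twoBlocks [Finite G] (hD : Cfsg.IsRootInvolutionSet D) {i : G} (hi : orderOf i = 2)
    (hiD : i ∉ D) : TwoBlocks D R i := by
  obtain ⟨e, he, hm⟩ := exists_moved hf (CfsgLib.Invol.invol_ne_one hi)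
  obtain ⟨z, u, hz, hzD, hu, czu, rfl, htz⟩ := hR.move_split hD hi hiD he hm
  obtain ⟨e', he', hm'⟩ := exists_moved hf (CfsgLib.Invol.invol_ne_one hz)
  obtain ⟨z', u', -, -, hu', czu', rfl, htz'⟩ := hR.move_split hD hz hzD he' hm'
  have cu' : z' * u' * u' = u' * (z' * u') :=
    (Commute.mul_left (show Commute z' u' from czu') (Commute.refl u')).eq
  obtain ⟨g, hg, hgu⟩ := hR.conj_in_centralizer hD htz hu hu' czu cu'
  have h1 : g * (z' * u' * u) * g⁻¹ = z' := by
    rw [← conj_mul, hgu, hg.eq, mul_inv_cancel_right, mul_assoc, mul_self hD hu', mul_one]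
  have h2 := hR.twoBlocks_conj hD htz' g⁻¹
  rw [← h1] at h2
  simpa [mul_assoc] using h2

/-- Commuting members of a faithful block relation multiply into `D`. -/
theorem prod_mem [Finite G] (hD : Cfsg.IsRootInvolutionSet D) {a b : G} (ha : a ∈ D) (hb : b ∈ D)
    (hne : a ≠ b) (hc : a * b = b * a) : a * b ∈ D := by
  by_contra hab
  have hne1 : a * b ≠ 1 := fun h => hne (by
    rw [← inv_eq hD ha]; exact inv_eq_of_mul_eq_one_right h)
  have h2 : orderOf (a * b) = 2 := CfsgLib.Invol.invol_iff.2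
    ⟨by rw [mul_assoc, ← mul_assoc b a, ← hc, mul_assoc a b b, mul_self hD hb, mul_one,
      mul_self hD ha], hne1⟩
  obtain ⟨p, hp, q, hq, hpq, cp, cq⟩ := hR.twoBlocks hf hD h2 hab
  obtain ⟨e, he, ce, hae⟩ : ∃ e ∈ D, a * b * e = e * (a * b) ∧ ¬ R a e := by
    by_cases hap : R a p
    · exact ⟨q, hq, cq, fun h' => hpq (hR.trans (hR.symm hap) h')⟩
    · exact ⟨p, hp, cp, hap⟩
  have hbe : ¬ R b e := fun h' => hae (hR.trans (hR.of_commute ha hb hc) h')
  have hcom : Commute (a * b) (a * e) := Commute.mul_right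
    (Commute.mul_left (Commute.refl a) (show Commute b a from hc.symm)) ce
  have hw := (hR.cross_odd hD ha he hae).2.2.2
  have h3 : orderOf (b * e) = 2 * orderOf (a * e) := by
    rw [show b * e = a * b * (a * e) by
      rw [hc, mul_assoc, ← mul_assoc a a, mul_self hD ha, one_mul],
      hcom.orderOf_mul_eq_mul_orderOf_of_coprime (by rw [h2]; exact Nat.coprime_two_left.2 hw), h2]
  have hodd := (hR.cross_odd hD hb he hbe).2.2.2
  rw [h3] at hodd
  exact absurd (even_two_mul _) (Nat.not_even_iff_odd.2 hodd)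

end IsBlockRel

namespace IsBlockSystem

variable (hB : IsBlockSystem D R)
include hB

/-- Two members commuting with a third one have no product of odd order. -/
theorem not_odd {a b u : G} (hu : u ∈ D) (ca : u * a = a * u) (cb : u * b = b * u) :
    ¬ Cfsg.OddAdj D a b := fun h => by
  by_cases hau : u = a
  · subst hau
    exact commute_not_odd hB.root h.1 h.2.1 h.2.2.1 cb h.2.2.2
  · exact forbidden hB.root hu (hB.prod hu h.1 hau ca) ca cb h

theorem four_of_commute {a b u : G} (ha : a ∈ D) (hb : b ∈ D) (hu : u ∈ D) (ca : u * a = a * u)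
    (cb : u * b = b * u) (hnc : a * b ≠ b * a) : orderOf (a * b) = 4 :=
  four_of hB.root ha hb hnc (hB.not_odd hu ca cb)

/-- An involution fixing a block commutes with one of its members. -/
theorem exists_commute_of_fix [Finite G] {i e : G} (hi : orderOf i = 2) (he : e ∈ D)
    (h : R (i * e * i⁻¹) e) : ∃ c ∈ D, R c e ∧ i * c = c * i := by
  have hD := hB.root
  have ii := CfsgLib.Invol.invol_inv hi
  have si := CfsgLib.Invol.invol_mul_self hi
  have he' := hD.conj_mem e he i
  rw [ii] at he' h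
  set e' := i * e * i with he'def
  have hswap : i * e' * i = e := by
    rw [he'def, show i * (i * e * i) * i = (i * i) * e * (i * i) by simp only [mul_assoc], si,
      one_mul, mul_one]
  have hfix : ∀ c : G, i * c * i = c → i * c = c * i := fun c hc => by
    nth_rewrite 2 [← hc]
    rw [mul_assoc (i * c), si, mul_one]
  have hmap : ∀ x y : G, i * (x * y) * i = (i * x * i) * (i * y * i) := fun x y => by
    rw [show i * x * i * (i * y * i) = i * x * (i * i) * (y * i) by simp only [mul_assoc], si,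
      mul_one]
    simp only [mul_assoc]
  rcases hD.pair e he e' he' with hc | hodd | ⟨h4, -⟩
  · by_cases hee : e = e'
    · exact ⟨e, he, hB.rel.refl he, hfix e hee.symm⟩
    · have hm := hB.prod he he' hee hc
      refine ⟨e * e', hm, hB.rel.of_commute hm he ?_, hfix _ ?_⟩
      · rw [mul_assoc, ← hc]
      · rw [hmap, ← he'def, hswap, hc]
  · obtain ⟨g, hg, hge⟩ :=
      CfsgLib.Invol.exists_conj_eq_of_odd (hD.orderOf_eq e he) (hD.orderOf_eq e' he') hodd
    obtain ⟨k, rfl⟩ := Subgroup.mem_zpowers_iff.1 hg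
    set w := e * e' with hw
    obtain ⟨m, hm⟩ := hodd
    have hw0 : w ^ ((2 * m + 1 : ℕ) : ℤ) = 1 := by rw [zpow_natCast, ← hm, pow_orderOf_eq_one]
    have hiw : i * w * i⁻¹ = w⁻¹ := by
      rw [ii, hw, hmap, ← he'def, hswap, mul_inv_rev, inv_eq hD he, inv_eq hD he']
    set j : ℤ := k * (m + 1) with hj
    have h2j : w ^ (j + j) = w ^ k := by
      rw [show j + j = k + ((2 * m + 1 : ℕ) : ℤ) * k by rw [hj]; push_cast; ring, zpow_add,
        zpow_mul, hw0, one_zpow, mul_one]
    have hwmem : w ∈ hB.rel.stab e he :=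
      mul_mem (hB.rel.mem_stab_of_rel he (hB.rel.refl he)) (hB.rel.mem_stab_of_rel he h)
    refine ⟨w ^ j * e * (w ^ j)⁻¹, hD.conj_mem e he _,
      (hB.rel.mem_stab he).1 (zpow_mem hwmem j), hfix _ ?_⟩
    have hij := CfsgLib.Invol.conj_zpow_of_inverts hiw j
    rw [← ii] at hij ⊢
    rw [inv_inv] at hij
    calc i⁻¹ * (w ^ j * e * (w ^ j)⁻¹) * i⁻¹
        = w ^ (-j) * e' * (w ^ (-j))⁻¹ := by
          rw [← hij, he'def]
          simp only [ii, mul_inv_rev, mul_assoc, ← mul_assoc i i, si, one_mul]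
      _ = w ^ j * e * (w ^ j)⁻¹ := by
          rw [← hge, ← h2j]
          group
  · obtain ⟨hm, c1, -, -, -, -⟩ := four_facts hD he he' h4
    refine ⟨(e * e') ^ 2, hm, hB.rel.of_commute hm he c1.eq.symm, hfix _ ?_⟩
    rw [pow_two, hmap, hmap, ← he'def, hswap]
    have := inv_eq hD hm
    rw [pow_two, mul_inv_rev, mul_inv_rev, inv_eq hD he, inv_eq hD he'] at this
    exact this

end IsBlockSystem

end CfsgLib.RootInvol
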