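import Cfsg.Agent.Lib.RootSub.SameOdd

/-!
# Closures of involutions with pairwise products of order dividing four

A set of involutions closed under the group it generates, with all pairwise products of order dividing
four, generates a `2`-group; in a `2`-group the commutators with the generators leave any set without
the identity.
-/

set_option autoImplicit false

open scoped commutatorElement

namespace CfsgLib.RootInvol

variable {G : Type*} [Group G] [Finite G]

theorem isPGroup_closure_of_pow_four {X : Set G} (hsq : ∀ a ∈ X, a * a = 1)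
    (hconj : ∀ g ∈ Subgroup.closure X, ∀ a ∈ X, g * a * g⁻¹ ∈ X)
    (h4 : ∀ a ∈ X, ∀ b ∈ X, (a * b) ^ 4 = 1) : IsPGroup 2 (Subgroup.closure X) := by
  haveI : Fact (Nat.Prime 2) := ⟨Nat.prime_two⟩
  set Q := Subgroup.closure X with hQ
  have hgen : ∀ k : Q, (k : G) ∈ X → k ∈ Cfsg.pCore 2 Q := by
    intro k hk
    obtain ⟨N, hN, hN2, hkN⟩ := CfsgLib.Invol.exists_normal_pGroup_mem (p := 2) (x := k) (by
      intro g
      set l := g * k * g⁻¹ with hldef
      have hl : (l : G) ∈ X := hconj _ g.2 _ hk
      have hkk : k * k = 1 := Subtype.ext (hsq _ hk)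
      have hll : l * l = 1 := Subtype.ext (hsq _ hl)
      have e4 : (k * l) ^ 4 = 1 := Subtype.ext (h4 _ hk _ hl)
      have hP : IsPGroup 2 ↥(Subgroup.zpowers (k * l)) := by
        rintro ⟨_, i, rfl⟩
        exact ⟨2, Subtype.ext (by
          show ((k * l) ^ i) ^ 2 ^ 2 = 1
          rw [← zpow_natCast, zpow_comm, zpow_natCast, show 2 ^ 2 = 4 from rfl, e4, one_zpow])⟩
      have hk2 : IsPGroup 2 ↥(Subgroup.zpowers k) := by
        rintro ⟨_, i, rfl⟩
        exact ⟨1, Subtype.ext (by
          show (k ^ i) ^ 2 ^ 1 = 1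
          rw [← zpow_natCast, zpow_comm, zpow_natCast, pow_one, pow_two, hkk, one_zpow])⟩
      have hle : Subgroup.zpowers k ≤
          Subgroup.normalizer (Subgroup.zpowers (k * l) : Set Q) := by
        rw [Subgroup.zpowers_le]
        refine CfsgLib.Invol.mem_normalizer_of_conj_map_eq ?_
        rw [MonoidHom.map_zpowers]
        have e : (MulAut.conj k).toMonoidHom (k * l) = (k * l)⁻¹ := by
          show k * (k * l) * k⁻¹ = _
          rw [mul_inv_rev, inv_eq_of_mul_eq_one_right hkk, inv_eq_of_mul_eq_one_right hll,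
            ← mul_assoc k k, hkk, one_mul]
        rw [e, Subgroup.zpowers_inv]
      refine (hk2.to_sup_of_normal_right' hP hle).to_le ((Subgroup.closure_le _).2 ?_)
      rintro x (rfl | rfl)
      · exact Subgroup.mem_sup_left (Subgroup.mem_zpowers _)
      · have : l = k * (k * l) := by rw [← mul_assoc, hkk, one_mul]
        have h2 : k * (k * l) ∈ Subgroup.zpowers k ⊔ Subgroup.zpowers (k * l) :=
          mul_mem (Subgroup.mem_sup_left (Subgroup.mem_zpowers _))
            (Subgroup.mem_sup_right (Subgroup.mem_zpowers _))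
        rwa [← this] at h2)
    exact CfsgLib.PGroup.le_pCore hN hN2 hkN
  intro g
  have hmem : g ∈ Cfsg.pCore 2 Q := by
    obtain ⟨g, hg⟩ := g
    induction hg using Subgroup.closure_induction with
    | mem x hx => exact hgen ⟨x, Subgroup.subset_closure hx⟩ hx
    | one => exact one_mem _
    | mul a b ha hb iha ihb => exact mul_mem iha ihb
    | inv a ha iha => exact inv_mem iha
  obtain ⟨k, hk⟩ := CfsgLib.PGroup.isPGroup_pCore 2 Q ⟨g, hmem⟩
  exact ⟨k, congrArg Subtype.val hk⟩

/-- A set without `1` in a finite `2`-group has a member whose commutators with the generators avoid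
the set. -/
theorem exists_bottom {X S : Set G} (hP : IsPGroup 2 (Subgroup.closure X)) (hS : S.Nonempty)
    (hsub : S ⊆ Subgroup.closure X) (h1 : (1 : G) ∉ S) : ∃ c ∈ S, ∀ x ∈ X, ⁅c, x⁆ ∉ S := by
  haveI : Fact (Nat.Prime 2) := ⟨Nat.prime_two⟩
  haveI := hP.isNilpotent
  obtain ⟨n, hn⟩ :=
    (Subgroup.isNilpotent_iff_lowerCentralSeries (S := Subgroup.closure X)).1 inferInstance
  by_contra hcon
  push Not at hcon
  have hdesc : ∀ j, ∃ c ∈ S, c ∈ (Subgroup.closure X).lowerCentralSeries j := by
    intro j
    induction j with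
    | zero =>
      obtain ⟨c, hc⟩ := hS
      exact ⟨c, hc, hsub hc⟩
    | succ m ih =>
      obtain ⟨c, hc, hcm⟩ := ih
      obtain ⟨x, hx, hcx⟩ := hcon c hc
      refine ⟨_, hcx, ?_⟩
      rw [Subgroup.lowerCentralSeries_succ]
      exact Subgroup.commutator_mem_commutator hcm (Subgroup.subset_closure hx)
  obtain ⟨c, hc, hc'⟩ := hdesc n
  rw [hn, Subgroup.mem_bot] at hc'
  exact h1 (hc' ▸ hc)

end CfsgLib.RootInvol
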