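import Cfsg.Agent.Lib.RootSub.Blocks.Basic

/-!
# Components of the product graph of root involutions

The graph joining two commuting members with product in `D`: its edges, components and their
behaviour towards a member outside a component, and the restriction to a subgroup and to a quotient.
-/

set_option autoImplicit false
set_option linter.unusedSectionVars false

namespace CfsgLib.RootInvol

variable {G : Type*} [Group G] {D : Set G}

/-- In the same component of the product graph. -/
abbrev SameComp (D : Set G) (a b : G) : Prop := Relation.ReflTransGen (Cfsg.ProdAdj D) a b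

theorem prodAdj_symm {a b : G} (h : Cfsg.ProdAdj D a b) : Cfsg.ProdAdj D b a :=
  ⟨h.2.1, h.1, h.2.2.1.symm, h.2.2.2.1.symm, h.2.2.2.1 ▸ h.2.2.2.2⟩

theorem sameComp_symm {a b : G} (h : SameComp D a b) : SameComp D b a := by
  induction h with
  | refl => exact Relation.ReflTransGen.refl
  | tail _ h ih => exact (Relation.ReflTransGen.single (prodAdj_symm h)).trans ih

theorem sameComp_mem {a b : G} (ha : a ∈ D) (h : SameComp D a b) : b ∈ D := by
  induction h with
  | refl => exact ha
  | tail _ h _ => exact h.2.1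

variable (hD : Cfsg.IsRootInvolutionSet D)
include hD

theorem prodAdj_conj {a b : G} (h : Cfsg.ProdAdj D a b) (g : G) :
    Cfsg.ProdAdj D (g * a * g⁻¹) (g * b * g⁻¹) := by
  refine ⟨hD.conj_mem a h.1 g, hD.conj_mem b h.2.1 g,
    fun e => h.2.2.1 (mul_left_cancel (mul_right_cancel e)), (conj_comm_iff g).2 h.2.2.2.1, ?_⟩
  rw [show g * a * g⁻¹ * (g * b * g⁻¹) = g * (a * b) * g⁻¹ by group]
  exact hD.conj_mem _ h.2.2.2.2 g

theorem sameComp_conj {a b : G} (h : SameComp D a b) (g : G) :
    SameComp D (g * a * g⁻¹) (g * b * g⁻¹) := by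
  induction h with
  | refl => exact Relation.ReflTransGen.refl
  | tail _ h ih => exact ih.tail (prodAdj_conj hD h g)

/-- Both factors of a product of order four are joined to its square. -/
theorem prodAdj_sq {a b : G} (ha : a ∈ D) (hb : b ∈ D) (h : orderOf (a * b) = 4) :
    Cfsg.ProdAdj D a ((a * b) ^ 2) ∧ Cfsg.ProdAdj D b ((a * b) ^ 2) := by
  obtain ⟨hm, c1, c2, e1, e2, -⟩ := four_facts hD ha hb h
  have hnc := not_commute_of_four hD ha hb h
  refine ⟨⟨ha, hm, fun e => hnc (e ▸ c2.eq.symm), c1.eq, ?_⟩,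
    ⟨hb, hm, fun e => hnc (e ▸ c1.eq), c2.eq, ?_⟩⟩
  · rw [e1]
    have := hD.conj_mem a ha b
    rwa [inv_eq hD hb] at this
  · rw [e2]
    have := hD.conj_mem b hb a
    rwa [inv_eq hD ha] at this

theorem sameComp_of_four {a b : G} (ha : a ∈ D) (hb : b ∈ D) (h : orderOf (a * b) = 4) :
    SameComp D a b :=
  (Relation.ReflTransGen.single (prodAdj_sq hD ha hb h).1).tail
    (prodAdj_symm (prodAdj_sq hD ha hb h).2)

theorem commute_or_oddAdj {a b : G} (ha : a ∈ D) (hb : b ∈ D) (h : ¬ SameComp D a b) :
    a * b = b * a ∨ Cfsg.OddAdj D a b := by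
  by_contra hc
  push Not at hc
  exact h (sameComp_of_four hD ha hb (four_of hD ha hb hc.1 hc.2))

theorem not_commute_of_oddAdj {a b : G} (h : Cfsg.OddAdj D a b) : a * b ≠ b * a := fun hc =>
  commute_not_odd hD h.1 h.2.1 h.2.2.1 hc h.2.2.2

/-- A member commuting with a member commutes with the whole component of it, unless it lies there. -/
theorem commute_of_sameComp {a b y : G} (hy : y ∈ D) (h : SameComp D a b) (hout : ¬ SameComp D a y)
    (hc : a * y = y * a) : b * y = y * b := by
  induction h with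
  | refl => exact hc
  | @tail c e hac hce ih =>
    rcases commute_or_oddAdj hD hce.2.1 hy (fun h' => hout ((hac.tail hce).trans h')) with h' | h'
    · exact h'
    · exact (forbidden hD hce.1 hce.2.2.2.2 hce.2.2.2.1 ih h').elim

theorem oddAdj_of_sameComp {a b y : G} (h : SameComp D a b) (hodd : Cfsg.OddAdj D a y)
    (hout : ¬ SameComp D a y) : Cfsg.OddAdj D b y :=
  (commute_or_oddAdj hD (sameComp_mem hodd.1 h) hodd.2.1 fun h' => hout (h.trans h')).resolve_left
    fun hc => not_commute_of_oddAdj hD hodd (commute_of_sameComp hD hodd.2.1 (sameComp_symm h)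
      (fun h' => hout (h.trans h')) hc)

/-- A component in which two members do not commute has a product of order four. -/
theorem exists_four {a b : G} (ha : a ∈ D) (h : SameComp D a b) (hnc : a * b ≠ b * a) :
    ∃ e, SameComp D a e ∧ orderOf (a * e) = 4 := by
  induction h with
  | refl => exact absurd rfl hnc
  | @tail c e hac hce ih =>
    by_cases hc : a * c = c * a
    · by_cases hodd : Cfsg.OddAdj D e a
      · exact (forbidden hD hce.1 hce.2.2.2.2 hce.2.2.2.1 hc.symm hodd).elim
      · exact ⟨e, hac.tail hce,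
          four_of hD ha hce.2.1 hnc fun h' => hodd (oddAdj_symm hD h')⟩
    · exact ih hc

/-- The members in a subgroup form a set of root involutions of the subgroup they generate. -/
theorem restrict_root (K : Subgroup G) :
    Cfsg.IsRootInvolutionSet
      (Subtype.val ⁻¹' (D ∩ K) : Set ↥(Subgroup.closure (D ∩ (K : Set G)))) := by
  have hle : Subgroup.closure (D ∩ (K : Set G)) ≤ K := (Subgroup.closure_le _).2 Set.inter_subset_right
  refine ⟨fun e he => ?_, Subgroup.closure_closure_coe_preimage, fun e he g => ?_,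
    fun a ha b hb => ?_⟩
  · rw [← Subgroup.orderOf_coe]
    exact hD.orderOf_eq _ he.1
  · exact ⟨hD.conj_mem _ he.1 (g : G), K.mul_mem (K.mul_mem (hle g.2) he.2) (K.inv_mem (hle g.2))⟩
  · rcases hD.pair _ ha.1 _ hb.1 with h | h | ⟨h4, hm⟩
    · exact Or.inl (Subtype.ext h)
    · exact Or.inr (Or.inl (by rw [← Subgroup.orderOf_coe]; exact h))
    · exact Or.inr (Or.inr ⟨by rw [← Subgroup.orderOf_coe]; exact h4, hm,
        K.pow_mem (K.mul_mem ha.2 hb.2) 2⟩)

/-- The images of the members in a quotient avoiding them form a set of root involutions. -/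
theorem image_root (N : Subgroup G) [N.Normal] (hN : ∀ a ∈ D, a ∉ N) :
    Cfsg.IsRootInvolutionSet (QuotientGroup.mk' N '' D) := by
  have h2 : ∀ a ∈ D, orderOf (QuotientGroup.mk' N a) = 2 := fun a ha => by
    refine orderOf_eq_prime (hp := ⟨Nat.prime_two⟩) ?_ fun e => hN a ha ((QuotientGroup.eq_one_iff a).1 e)
    rw [← map_pow, pow_two, mul_self hD ha, map_one]
  refine ⟨?_, ?_, ?_, ?_⟩
  · rintro _ ⟨a, ha, rfl⟩
    exact h2 a ha
  · rw [← MonoidHom.map_closure, hD.generates, Subgroup.map_top_of_surjective _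
      (QuotientGroup.mk'_surjective N)]
  · rintro _ ⟨a, ha, rfl⟩ q
    obtain ⟨g, rfl⟩ := QuotientGroup.mk'_surjective N q
    exact ⟨_, hD.conj_mem a ha g, by rw [map_mul, map_mul, map_inv]⟩
  · rintro _ ⟨a, ha, rfl⟩ _ ⟨b, hb, rfl⟩
    rcases hD.pair a ha b hb with h | h | ⟨h4, hm⟩
    · exact Or.inl (by rw [← map_mul, h, map_mul])
    · refine Or.inr (Or.inl ?_)
      rw [← map_mul]
      exact h.of_dvd_nat (orderOf_map_dvd _ _)
    · refine Or.inr (Or.inr ⟨?_, ⟨_, hm, by rw [map_pow, map_mul]⟩⟩)
      rw [← map_mul]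
      have := Fact.mk Nat.prime_two
      refine orderOf_eq_prime_pow (p := 2) (n := 1) ?_ ?_
      · rw [pow_one, ← map_pow]
        exact fun e => hN _ hm ((QuotientGroup.eq_one_iff _).1 e)
      · rw [show (2 : ℕ) ^ (1 + 1) = orderOf (a * b) by rw [h4]; norm_num, ← map_pow,
          pow_orderOf_eq_one, map_one]

end CfsgLib.RootInvol
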