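import Cfsg.Agent.Lib.RootSub.Blocks.Basic
import Cfsg.Agent.Lib.Bender.Full.Main
import Cfsg.Agent.Lib.Invol.StronglyEmbedded

/-!
# When every involution is a member, the blocks commute

A block stabiliser is strongly embedded and core-free, so it has a normal two-subgroup regular on the
other cosets; a central involution of that subgroup is a member of the block, and so is every other one.
-/

set_option autoImplicit false

namespace CfsgLib.RootInvol

variable {G : Type*} [Group G] [Finite G] {D : Set G} {R : G → G → Prop}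

theorem IsBlockSystem.commute_of_all_members (hB : IsBlockSystem D R) (hf : IsFaithfulBlocks D R)
    (hall : ∀ i : G, orderOf i = 2 → i ∈ D) {a b : G} (ha : a ∈ D) (hb : b ∈ D) (h : R a b) :
    a * b = b * a := by
  have hD := hB.root
  have hR := hB.rel
  have hcl := hR.isRootInvolutionClass hD
  set M := hR.stab a ha with hMdef
  have mem : ∀ {g : G}, g ∈ M ↔ R (g * a * g⁻¹) a := fun {g} => Iff.rfl
  have haM : a ∈ M := hR.mem_stab_of_rel ha (hR.refl ha)
  have hout : ∃ g, g ∉ M := by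
    obtain ⟨c, hc, hac⟩ := hR.exists_not_rel ha
    obtain ⟨g, rfl⟩ := hcl.2.2 a ha c hc
    exact ⟨g, fun hg => hac (hR.symm (mem.1 hg))⟩
  have hne : M ≠ ⊤ := by
    obtain ⟨g, hg⟩ := hout
    exact fun e => hg (e ▸ Subgroup.mem_top g)
  have hev : Even (Nat.card M) := CfsgLib.Invol.even_card_of_invol_mem haM (hD.orderOf_eq a ha)
  have hin : ∀ t : G, t ∈ M → orderOf t = 2 → R t a := fun t ht h2 =>
    hR.rel_of_fix hD (hall t h2) ha (mem.1 ht)
  have hSE : Cfsg.IsStronglyEmbedded M := by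
    refine (CfsgLib.Invol.stronglyEmbedded_iff hne hev).2 fun t ht h2 g hg => mem.2 ?_
    have h1 := hR.conj g (hR.symm (hin t ht h2))
    exact hR.trans h1 (hin _ hg (CfsgLib.Invol.invol_conj h2 g))
  have hcore : M.normalCore = ⊥ := by
    refine (Subgroup.eq_bot_iff_forall _).2 fun g hg => hf g fun e he => ?_
    obtain ⟨k, rfl⟩ := hcl.2.2 a ha e he
    have h1 : k⁻¹ * g * k⁻¹⁻¹ ∈ M :=
      Subgroup.normalCore_le M ((Subgroup.normalCore_normal M).conj_mem g hg k⁻¹)
    have h2 := hR.conj k (mem.1 h1)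
    simpa [mul_assoc] using h2
  obtain ⟨p, hp, hpa, hpc⟩ := hB.partner ha
  have hpair : CfsgLib.Bender.HasPair G :=
    ⟨a, p, hD.orderOf_eq a ha, hD.orderOf_eq p hp, hpa.symm, hpc⟩
  obtain ⟨Q, hQM, hMQ, hQ2, hreg⟩ := CfsgLib.Bender.Full.fullStatement G M hSE hcore hpair
  obtain ⟨g, hg⟩ := hout
  have hag : a * g ∉ M := fun h' => hg (by simpa using mul_mem (inv_mem haM) h')
  obtain ⟨x, ⟨hxQ, hx⟩, -⟩ := hreg g (a * g) hg hag
  have hx1 : x ≠ 1 := by
    rintro rfl
    rw [one_mul, show (a * g)⁻¹ * g = g⁻¹ * a⁻¹ * g⁻¹⁻¹ by group, inv_eq hD ha] at hx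
    exact hg (inv_mem_iff.1
      (CfsgLib.Invol.mem_of_conj_mem hSE haM (hD.orderOf_eq a ha) hx))
  haveI : Nontrivial Q := ⟨⟨⟨x, hxQ⟩, 1, fun e => hx1 (congrArg Subtype.val e)⟩⟩
  haveI : Fact (Nat.Prime 2) := ⟨Nat.prime_two⟩
  haveI := hQ2.center_nontrivial
  obtain ⟨n, hn, hn'⟩ := (hQ2.to_subgroup (Subgroup.center Q)).nontrivial_iff_card.1 inferInstance
  obtain ⟨z, hz⟩ := exists_prime_orderOf_dvd_card' 2
    (show 2 ∣ Nat.card (Subgroup.center Q) by rw [hn']; exact dvd_pow_self 2 (by omega))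
  set z' : G := ((z : Q) : G) with hz'
  have hzo : orderOf z' = 2 := by rw [hz', Subgroup.orderOf_coe, Subgroup.orderOf_coe, hz]
  have hzD := hall z' hzo
  have hzQ : z' ∈ Q := (z : Q).2
  have hza := hin z' (hQM hzQ) hzo
  have hzc : ∀ q ∈ Q, q * z' = z' * q := fun q hq =>
    congrArg Subtype.val (Subgroup.mem_center_iff.1 z.2 ⟨q, hq⟩)
  -- every member of the block is a conjugate of `z'` under `M`, hence central in `Q`
  have key : ∀ c ∈ D, R c a → c ∈ Q ∧ ∀ q ∈ Q, q * c = c * q := by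
    intro c hc hca
    obtain ⟨g, rfl⟩ := hcl.2.2 z' hzD c hc
    have hgM : g ∈ M := mem.2 (hR.trans (hR.conj g (hR.symm hza)) hca)
    refine ⟨(Subgroup.mem_normalizer_iff.1 (hMQ hgM) z').1 hzQ, fun q hq => ?_⟩
    have h1 : g⁻¹ * q * g⁻¹⁻¹ ∈ Q :=
      (Subgroup.mem_normalizer_iff.1 (hMQ (inv_mem hgM)) q).1 hq
    have h2 := congrArg (fun w => g * w * g⁻¹) (hzc _ h1)
    simpa [mul_assoc] using h2
  exact (key b hb (hR.symm h)).2 a (key a ha (hR.refl ha)).1

end CfsgLib.RootInvol
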