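import Cfsg.Agent.Lib.Invol.Basic

/-!
# The middle of two involutions swapped by a third one

If `i` swaps the involutions `e`, `e'` and `e e'` has odd order, the conjugate of `e` halfway to `e'`
commutes with `i` and swaps `e` and `e'` as well.
-/

set_option autoImplicit false

namespace CfsgLib.RootInvol

variable {G : Type*} [Group G]

theorem exists_middle {i e : G} (hi : orderOf i = 2) (he : orderOf e = 2)
    (hodd : Odd (orderOf (e * (i * e * i⁻¹)))) :
    ∃ h ∈ Subgroup.zpowers (e * (i * e * i⁻¹)),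
      i * (h * e * h⁻¹) = h * e * h⁻¹ * i ∧ h * e * h⁻¹ * e * (h * e * h⁻¹) = i * e * i⁻¹ := by
  have he' : orderOf (i * e * i⁻¹) = 2 := CfsgLib.Invol.invol_conj he i
  set e' := i * e * i⁻¹ with he'def
  set w := e * e' with hw
  obtain ⟨m, hm⟩ := hodd
  have hw0 : w ^ ((2 * m + 1 : ℕ) : ℤ) = 1 := by rw [zpow_natCast, ← hm, pow_orderOf_eq_one]
  -- `e' = w ^ (-1) * e * w` rewritten with the half `j` of the conjugating exponent
  set j : ℤ := (m : ℤ) + 1 with hj
  have h2j : w ^ (2 * j) = w := by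
    rw [show 2 * j = 1 + ((2 * m + 1 : ℕ) : ℤ) by rw [hj]; push_cast; ring, zpow_add, hw0, mul_one,
      zpow_one]
  have hew : e * w = e' := by rw [hw, ← mul_assoc, CfsgLib.Invol.invol_mul_self he, one_mul]
  have hconj : ∀ k : ℤ, w ^ k * e * (w ^ k)⁻¹ = e * w ^ (-(2 * k)) :=
    fun k => CfsgLib.Invol.zpow_conj_invol he he' k
  have hewk : ∀ k : ℤ, w ^ k * e = e * w ^ (-k) := fun k =>
    CfsgLib.Invol.zpow_mul_invol he (CfsgLib.Invol.invol_conj_mul he he') k
  set l : ℤ := (m : ℤ) * j with hl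
  -- `w ^ m` carries `e` to `e'`, so half of it carries `e` to the middle
  have hll : w ^ (2 * (2 * l)) = w⁻¹ := by
    rw [show 2 * (2 * l) = (2 * j) * (2 * m) by rw [hl]; ring, zpow_mul, h2j,
      show (2 * (m : ℤ)) = ((2 * m + 1 : ℕ) : ℤ) + (-1) by push_cast; ring, zpow_add, hw0, one_mul,
      zpow_neg, zpow_one]
  refine ⟨w ^ l, Subgroup.zpow_mem_zpowers _ _, ?_, ?_⟩
  · have hiw : i * w * i⁻¹ = w⁻¹ := by
      have si := CfsgLib.Invol.invol_mul_self hi
      rw [mul_inv_rev, CfsgLib.Invol.invol_inv he, CfsgLib.Invol.invol_inv he', hw, he'def,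
        CfsgLib.Invol.invol_inv hi]
      simp only [mul_assoc, si, mul_one]
    rw [hconj]
    have h1 : i * (e * w ^ (-(2 * l))) * i⁻¹ = e * w ^ (-(2 * l)) := by
      rw [show i * (e * w ^ (-(2 * l))) * i⁻¹ = e' * (i * w ^ (-(2 * l)) * i⁻¹) by
        rw [he'def]; group, CfsgLib.Invol.conj_zpow_of_inverts hiw, neg_neg, ← hew, mul_assoc]
      congr 1
      have : w ^ (2 * l) * w ^ (2 * l) = w⁻¹ := by rw [← zpow_add, ← two_mul, hll]
      rw [zpow_neg, eq_inv_iff_mul_eq_one, mul_assoc, this, mul_inv_cancel]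
    exact mul_inv_eq_iff_eq_mul.1 h1
  · rw [hconj]
    rw [show e * w ^ (-(2 * l)) * e * (e * w ^ (-(2 * l))) =
        e * (w ^ (-(2 * l)) * (e * e) * w ^ (-(2 * l))) by group, CfsgLib.Invol.invol_mul_self he,
      mul_one, ← zpow_add, show -(2 * l) + -(2 * l) = -(2 * (2 * l)) by ring, zpow_neg, hll, inv_inv,
      hew]

end CfsgLib.RootInvol
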