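import Cfsg.Agent.Lib.RootSub.Blocks.Basic
import Cfsg.Agent.Lib.RootSub.Blocks.Middle

/-!
# The kernel of the action on blocks
-/

set_option autoImplicit false

namespace CfsgLib.RootInvol

variable {G : Type*} [Group G] {D : Set G} {R : G → G → Prop}

namespace IsBlockSystem

variable (hB : IsBlockSystem D R)
include hB

/-- The subgroup fixing every block. -/
def kernel : Subgroup G where
  carrier := {g | ∀ e ∈ D, R (g * e * g⁻¹) e}
  one_mem' e he := by simpa using hB.rel.refl he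
  mul_mem' {g h} hg hh e he := by
    have := hB.rel.trans (hB.rel.conj g (hh e he)) (hg e he)
    simpa [mul_assoc] using this
  inv_mem' {g} hg e he := by
    have := hB.rel.symm (hB.rel.conj g⁻¹ (hg e he))
    simpa [mul_assoc] using this

theorem mem_kernel {g : G} : g ∈ hB.kernel ↔ ∀ e ∈ D, R (g * e * g⁻¹) e := Iff.rfl

theorem kernel_normal : hB.kernel.Normal :=
  ⟨fun n hn g e he => by
    have := hB.rel.conj g (hn _ (hB.root.conj_mem e he g⁻¹))
    simpa [mul_assoc] using this⟩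

theorem not_mem_kernel {d : G} (hd : d ∈ D) : d ∉ hB.kernel := fun h => by
  obtain ⟨b, hb, hdb⟩ := hB.rel.exists_not_rel hd
  exact hdb (hB.rel.rel_of_fix hB.root hd hb (h b hb))

theorem rel_of_mul_mem {a b : G} (ha : a ∈ D) (hb : b ∈ D) (h : a * b ∈ hB.kernel) : R b a := by
  refine hB.rel.rel_of_fix hB.root hb ha ?_
  have h1 : a * (a * b) ∈ hB.rel.stab a ha :=
    mul_mem (hB.rel.mem_stab_of_rel ha (hB.rel.refl ha)) (h a ha)
  rw [← mul_assoc, mul_self hB.root ha, one_mul] at h1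
  exact h1

variable [Finite G]

/-- Members congruent modulo the kernel are equal. -/
theorem eq_of_mul_mem {a b : G} (ha : a ∈ D) (hb : b ∈ D) (h : a * b ∈ hB.kernel) : a = b := by
  by_contra hne
  have hD := hB.root
  haveI := hB.kernel_normal
  have hab := hB.rel_of_mul_mem ha hb h
  rcases hD.pair a ha b hb with hc | hodd | ⟨-, hm⟩
  · exact hB.not_mem_kernel (hB.prod ha hb hne hc) h
  rotate_left
  · exact hB.not_mem_kernel hm (pow_mem h 2)
  obtain ⟨v, hv, hva, hav⟩ := hB.partner ha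
  have hodd' : Cfsg.OddAdj D a b := ⟨ha, hb, hne, hodd⟩
  have hb' := hD.conj_mem b hb v
  have hvi := inv_eq hD hv
  -- the conjugate of `b` by `v` is congruent to `b`
  have hfix : v * a * v⁻¹ = a := by rw [← hav, mul_inv_cancel_right]
  have hmem : b * (v * b * v⁻¹) ∈ hB.kernel := by
    have h1 : v * (a * b) * v⁻¹ ∈ hB.kernel := hB.kernel_normal.conj_mem _ h v
    rw [← hfix] at h
    have h2 := mul_mem (inv_mem h) h1
    rw [hfix] at h2
    have e : (a * b)⁻¹ * (v * (a * b) * v⁻¹) = b * (v * b * v⁻¹) := by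
      rw [show v * (a * b) * v⁻¹ = v * a * v⁻¹ * (v * b * v⁻¹) by group, hfix, mul_inv_rev,
        inv_eq hD ha, inv_eq hD hb]
      simp only [mul_assoc]
      rw [← mul_assoc a a, mul_self hD ha, one_mul]
    rwa [e] at h2
  rcases hD.pair b hb _ hb' with hc | hodd2 | ⟨-, hm2⟩
  · by_cases he : b = v * b * v⁻¹
    · refine hB.not_odd hv hav.symm ?_ hodd'
      nth_rewrite 2 [he]
      rw [inv_mul_cancel_right]
    · exact hB.not_mem_kernel (hB.prod hb hb' he hc) hmem
  rotate_left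
  · exact hB.not_mem_kernel hm2 (pow_mem hmem 2)
  obtain ⟨g, hg, hgv, hswap⟩ := exists_middle (hD.orderOf_eq v hv) (hD.orderOf_eq b hb) hodd2
  set y := g * b * g⁻¹ with hy
  have hyD : y ∈ D := hD.conj_mem b hb g
  have hgN : g ∈ hB.kernel := Subgroup.zpowers_le.2 hmem hg
  have hyN : a * y ∈ hB.kernel := by
    rw [hy, show a * (g * b * g⁻¹) = a * g * a⁻¹ * (a * b) * g⁻¹ by group]
    exact mul_mem (mul_mem (hB.kernel_normal.conj_mem g hgN a) h) (inv_mem hgN)
  have hya : y = a := by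
    by_contra hya
    rcases hD.pair a ha y hyD with hc | ho | ⟨-, hm3⟩
    · exact hB.not_mem_kernel (hB.prod ha hyD (Ne.symm hya) hc) hyN
    · exact hB.not_odd hv hav.symm hgv ⟨ha, hyD, Ne.symm hya, ho⟩
    · exact hB.not_mem_kernel hm3 (pow_mem hyN 2)
  rw [hya] at hswap
  have hc : a * v ∈ D := hB.prod ha hv (Ne.symm hva) hav
  refine hB.not_odd hc ?_ ?_ hodd'
  · rw [mul_assoc, ← hav]
  · calc a * v * b = a * (v * b * v⁻¹) * v := by group
      _ = a * (a * b * a) * v := by rw [hswap]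
      _ = a * a * b * (a * v) := by group
      _ = b * (a * v) := by rw [mul_self hD ha, one_mul]

/-- The image set in the quotient by the kernel. -/
theorem commute_of_image {a b : G} (ha : a ∈ D) (hb : b ∈ D)
    (h : (a * b) * (b * a)⁻¹ ∈ hB.kernel) : a * b = b * a := by
  have hD := hB.root
  have h' : (a * b) ^ 2 ∈ hB.kernel := by
    rw [mul_inv_rev, inv_eq hD ha, inv_eq hD hb] at h
    rw [pow_two]; exact h
  rcases hD.pair a ha b hb with hc | ⟨m, hm⟩ | ⟨-, hm⟩
  · exact hc
  · have h1 : a * b ∈ hB.kernel := by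
      have := pow_mem h' (m + 1)
      rwa [← pow_mul, show 2 * (m + 1) = orderOf (a * b) + 1 by omega, pow_succ, pow_orderOf_eq_one,
        one_mul] at this
    rw [hB.eq_of_mul_mem ha hb h1]
  · exact absurd h' (hB.not_mem_kernel hm)

/-- The blocks in the quotient by the kernel. -/
def quotRel (hB : IsBlockSystem D R) : G ⧸ hB.kernel → G ⧸ hB.kernel → Prop :=
  fun x y => ∃ a ∈ D, ∃ b ∈ D, (a : G ⧸ hB.kernel) = x ∧ (b : G ⧸ hB.kernel) = y ∧ R a b

theorem eq_of_mk_eq {a b : G} (ha : a ∈ D) (hb : b ∈ D)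
    (h : (a : G ⧸ hB.kernel) = (b : G ⧸ hB.kernel)) : a = b := by
  rw [QuotientGroup.eq, inv_eq hB.root ha] at h
  exact hB.eq_of_mul_mem ha hb h

theorem commute_of_mk [hN : hB.kernel.Normal] {a b : G} (ha : a ∈ D) (hb : b ∈ D)
    (h : (a : G ⧸ hB.kernel) * (b : G ⧸ hB.kernel) = (b : G ⧸ hB.kernel) * (a : G ⧸ hB.kernel)) :
    a * b = b * a := by
  refine hB.commute_of_image ha hb ((QuotientGroup.eq_one_iff _).1 ?_)
  rw [QuotientGroup.mk_mul, QuotientGroup.mk_inv, QuotientGroup.mk_mul, QuotientGroup.mk_mul, h,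
    mul_inv_cancel]

/-- **The quotient by the kernel is again a block system.** -/
theorem quotient_system [hN : hB.kernel.Normal] :
    IsBlockSystem (QuotientGroup.mk' hB.kernel '' D) hB.quotRel where
  root :=
    { orderOf_eq := by
        rintro _ ⟨d, hd, rfl⟩
        refine orderOf_eq_prime ?_ ?_
        · rw [← map_pow, pow_two, mul_self hB.root hd, map_one]
        · exact fun h => hB.not_mem_kernel hd ((QuotientGroup.eq_one_iff d).1 h)
      generates := by
        rw [← MonoidHom.map_closure, hB.root.generates,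
          Subgroup.map_top_of_surjective _ (QuotientGroup.mk'_surjective _)]
      conj_mem := by
        rintro _ ⟨d, hd, rfl⟩ g
        obtain ⟨g, rfl⟩ := QuotientGroup.mk'_surjective hB.kernel g
        exact ⟨g * d * g⁻¹, hB.root.conj_mem d hd g, by simp only [map_mul, map_inv]⟩
      pair := by
        rintro _ ⟨a, ha, rfl⟩ _ ⟨b, hb, rfl⟩
        rcases hB.root.pair a ha b hb with h | h | ⟨h4, hm⟩
        · exact Or.inl (by rw [← map_mul, ← map_mul, h])
        · exact Or.inr (Or.inl (by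
            rw [← map_mul]; exact h.of_dvd_nat (orderOf_map_dvd _ _)))
        · refine Or.inr (Or.inr ⟨?_, _, hm, by rw [map_pow, map_mul]⟩)
          have : Fact (Nat.Prime 2) := ⟨Nat.prime_two⟩
          rw [← map_mul]
          refine orderOf_eq_prime_pow (p := 2) (n := 1) ?_ ?_
          · rw [pow_one, ← map_pow]
            exact fun h => hB.not_mem_kernel hm ((QuotientGroup.eq_one_iff _).1 h)
          · rw [← map_pow, show (2 : ℕ) ^ (1 + 1) = orderOf (a * b) by rw [h4]; norm_num,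
              pow_orderOf_eq_one, map_one] }
  rel :=
    { refl := by
        rintro _ ⟨d, hd, rfl⟩
        exact ⟨d, hd, d, hd, rfl, rfl, hB.rel.refl hd⟩
      symm := by
        rintro _ _ ⟨a, ha, b, hb, e1, e2, h⟩
        exact ⟨b, hb, a, ha, e2, e1, hB.rel.symm h⟩
      trans := by
        rintro _ _ _ ⟨a, ha, b, hb, e1, e2, h⟩ ⟨b', hb', c, hc, e3, e4, h'⟩
        obtain rfl := hB.eq_of_mk_eq hb hb' (e2.trans e3.symm)
        exact ⟨a, ha, c, hc, e1, e4, hB.rel.trans h h'⟩
      conj := by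
        rintro g _ _ ⟨a, ha, b, hb, rfl, rfl, h⟩
        obtain ⟨g, rfl⟩ := QuotientGroup.mk'_surjective hB.kernel g
        exact ⟨_, hB.root.conj_mem a ha g, _, hB.root.conj_mem b hb g, rfl, rfl, hB.rel.conj g h⟩
      of_commute := by
        rintro _ _ ⟨a, ha, rfl⟩ ⟨b, hb, rfl⟩ h
        exact ⟨a, ha, b, hb, rfl, rfl, hB.rel.of_commute ha hb (hB.commute_of_mk ha hb h)⟩
      ne_univ := by
        obtain ⟨a, ha, b, hb, hab⟩ := hB.rel.ne_univ
        refine ⟨_, ⟨a, ha, rfl⟩, _, ⟨b, hb, rfl⟩, ?_⟩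
        rintro ⟨a', ha', b', hb', e1, e2, h⟩
        obtain rfl := hB.eq_of_mk_eq ha' ha e1
        obtain rfl := hB.eq_of_mk_eq hb' hb e2
        exact hab h }
  prod := by
    rintro _ _ ⟨a, ha, rfl⟩ ⟨b, hb, rfl⟩ hne hc
    exact ⟨a * b, hB.prod ha hb (fun h => hne (by rw [h])) (hB.commute_of_mk ha hb hc), map_mul _ _ _⟩
  partner := by
    rintro _ ⟨a, ha, rfl⟩
    obtain ⟨b, hb, hne, hc⟩ := hB.partner ha
    exact ⟨_, ⟨b, hb, rfl⟩, fun h => hne (hB.eq_of_mk_eq hb ha h), by rw [← map_mul, ← map_mul, hc]⟩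

end IsBlockSystem

end CfsgLib.RootInvol
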