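import Cfsg.Agent.Lib.RootSub.Blocks.Basic

/-!
# Restricting a block system to the members commuting with an element
-/

set_option autoImplicit false

namespace CfsgLib.RootInvol

variable {G : Type*} [Group G] {D : Set G} {R : G → G → Prop}

/-- The members commuting with `k`. -/
def commutingSet (D : Set G) (k : G) : Set G := {e | e ∈ D ∧ k * e = e * k}

/-- The members commuting with `k`, inside the subgroup they generate. -/
def innerSet (D : Set G) (k : G) : Set ↥(Subgroup.closure (commutingSet D k)) :=
  Subtype.val ⁻¹' commutingSet D k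

theorem mem_innerSet {k : G} {e : ↥(Subgroup.closure (commutingSet D k))} :
    e ∈ innerSet D k ↔ (e : G) ∈ D ∧ k * (e : G) = (e : G) * k := Iff.rfl

theorem commute_of_mem_closure {k g : G} (hg : g ∈ Subgroup.closure (commutingSet D k)) :
    Commute k g := by
  induction hg using Subgroup.closure_induction with
  | mem x hx => exact hx.2
  | one => exact Commute.one_right k
  | mul a b _ _ ha hb => exact ha.mul_right hb
  | inv a _ ha => exact ha.inv_right

theorem innerSet_root (hD : Cfsg.IsRootInvolutionSet D) (k : G) :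
    Cfsg.IsRootInvolutionSet (innerSet D k) := by
  refine ⟨fun e he => ?_, Subgroup.closure_closure_coe_preimage, fun e he g => ?_, fun a ha b hb => ?_⟩
  · rw [← Subgroup.orderOf_coe]; exact hD.orderOf_eq _ he.1
  · refine ⟨hD.conj_mem _ he.1 (g : G), ?_⟩
    have hg := commute_of_mem_closure g.2
    exact ((hg.mul_right he.2).mul_right hg.inv_right).eq
  · rcases hD.pair _ ha.1 _ hb.1 with h | h | ⟨h4, hm⟩
    · exact Or.inl (Subtype.ext h)
    · exact Or.inr (Or.inl (by rw [← Subgroup.orderOf_coe]; exact h))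
    · refine Or.inr (Or.inr ⟨by rw [← Subgroup.orderOf_coe]; exact h4, hm, ?_⟩)
      exact (((show Commute k _ from ha.2).mul_right hb.2).pow_right 2).eq

theorem innerSet_system (hB : IsBlockSystem D R) {k : G} (h2 : TwoBlocks D R k)
    (hpart : ∀ e ∈ D, k * e = e * k → ∃ v ∈ D, v ≠ e ∧ e * v = v * e ∧ k * v = v * k) :
    IsBlockSystem (innerSet D k) (fun a b => R a b) where
  root := innerSet_root hB.root k
  rel :=
    { refl := fun ha => hB.rel.refl ha.1
      symm := fun h => hB.rel.symm h
      trans := fun h h' => hB.rel.trans h h'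
      conj := fun g _ _ h => hB.rel.conj (g : G) h
      of_commute := fun ha hb h => hB.rel.of_commute ha.1 hb.1 (congrArg Subtype.val h)
      ne_univ := by
        obtain ⟨a, ha, b, hb, hab, ca, cb⟩ := h2
        exact ⟨⟨a, Subgroup.subset_closure ⟨ha, ca⟩⟩, ⟨ha, ca⟩,
          ⟨b, Subgroup.subset_closure ⟨hb, cb⟩⟩, ⟨hb, cb⟩, hab⟩ }
  prod := fun {a b} ha hb hne hc =>
    ⟨hB.prod ha.1 hb.1 (fun h => hne (Subtype.ext h)) (congrArg Subtype.val hc),
      ((show Commute k _ from ha.2).mul_right hb.2).eq⟩
  partner := fun {a} ha => by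
    obtain ⟨v, hv, hne, hc, hk⟩ := hpart a ha.1 ha.2
    exact ⟨⟨v, Subgroup.subset_closure ⟨hv, hk⟩⟩, ⟨hv, hk⟩, fun h => hne (congrArg Subtype.val h),
      Subtype.ext hc⟩

end CfsgLib.RootInvol
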