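import Cfsg.Agent.S5047
import Cfsg.Agent.Lib.RootSub.Blocks.Embedded
import Cfsg.Agent.Lib.RootSub.Blocks.Kernel
import Cfsg.Agent.Lib.RootSub.Blocks.Restrict

/-!
# The induction for the block theorem
-/

set_option autoImplicit false

namespace CfsgLib.RootInvol

universe u

/-- The block theorem for all groups of order below `n`. -/
def BlocksCommuteBelow (n : ℕ) : Prop :=
  ∀ (H : Type u) [Group H] [Finite H] (D : Set H) (R : H → H → Prop), Nat.card H < n →
    IsBlockSystem D R → ∀ a ∈ D, ∀ b ∈ D, R a b → a * b = b * a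

variable {G : Type u} [Group G] [Finite G] {D : Set G} {R : G → G → Prop}

namespace IsBlockSystem

variable (hB : IsBlockSystem D R)
include hB

theorem isFaithful_or_commute (ih : BlocksCommuteBelow.{u} (Nat.card G)) :
    IsFaithfulBlocks D R ∨ ∀ a ∈ D, ∀ b ∈ D, R a b → a * b = b * a := by
  by_cases h : hB.kernel = ⊥
  · exact Or.inl fun g hg => (Subgroup.eq_bot_iff_forall _).1 h g hg
  · refine Or.inr fun a ha b hb hab => ?_
    haveI := hB.kernel_normal
    have hlt : Nat.card (G ⧸ hB.kernel) < Nat.card G := by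
      rw [Subgroup.card_eq_card_quotient_mul_card_subgroup hB.kernel]
      exact lt_mul_of_one_lt_right Nat.card_pos ((Subgroup.one_lt_card_iff_ne_bot _).2 h)
    exact hB.commute_of_mk ha hb (ih _ _ _ hlt hB.quotient_system _ ⟨a, ha, rfl⟩ _ ⟨b, hb, rfl⟩
      ⟨a, ha, b, hb, rfl, rfl, hab⟩)

variable (hf : IsFaithfulBlocks D R) (ih : BlocksCommuteBelow.{u} (Nat.card G))
include hf ih

/-- An involution outside `D` commuting with two commuting members has commutative blocks. -/
theorem commute_in_centralizer {i : G} (hi : orderOf i = 2) (hiD : i ∉ D)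
    (hpair : ∃ u ∈ D, ∃ v ∈ D, u ≠ v ∧ u * v = v * u ∧ i * u = u * i ∧ i * v = v * i) :
    ∀ a ∈ D, ∀ b ∈ D, i * a = a * i → i * b = b * i → R a b → a * b = b * a := by
  intro a ha b hb ca cb hab
  obtain ⟨u, hu, v, hv, huv, cuv, cu, cv⟩ := hpair
  have h2 := hB.rel.twoBlocks hf hB.root hi hiD
  have hS : IsBlockSystem (innerSet D i) (fun a b => R a b) := by
    refine innerSet_system hB h2 fun e he ce => ?_
    obtain ⟨g, hg, rfl⟩ := hB.rel.conj_in_centralizer hB.root h2 hu he cu ce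
    refine ⟨g * v * g⁻¹, hB.root.conj_mem v hv g,
      fun h => huv (mul_left_cancel (mul_right_cancel h)).symm, (conj_comm_iff g).2 cuv, ?_⟩
    exact ((hg.symm.mul_right cv).mul_right hg.symm.inv_right).eq
  have hne : Subgroup.closure (commutingSet D i) ≠ ⊤ := fun h => by
    refine CfsgLib.Invol.invol_ne_one hi (hf i fun e he => ?_)
    have hc : i * e = e * i := (commute_of_mem_closure (h ▸ Subgroup.mem_top e)).eq
    rw [hc, mul_inv_cancel_right]
    exact hB.rel.refl he
  have hlt : Nat.card ↥(Subgroup.closure (commutingSet D i)) < Nat.card G :=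
    lt_of_le_of_ne (Subgroup.card_le_card_group _) fun h => hne (Subgroup.eq_top_of_card_eq _ h)
  exact congrArg Subtype.val (ih _ _ _ hlt hS ⟨a, Subgroup.subset_closure ⟨ha, ca⟩⟩ ⟨ha, ca⟩
    ⟨b, Subgroup.subset_closure ⟨hb, cb⟩⟩ ⟨hb, cb⟩ hab)

/-- **The induction step**, given that every member commuting with an outside involution `k` commutes
with a second one that does so. -/
theorem commute_of_step
    (htwo : ∀ k u : G, orderOf k = 2 → k ∉ D → u ∈ D → k * u = u * k →
      ∃ v ∈ D, v ≠ u ∧ u * v = v * u ∧ k * v = v * k) {a b : G} (ha : a ∈ D) (hb : b ∈ D)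
    (h : R a b) : a * b = b * a := by
  have hD := hB.root
  have hR := hB.rel
  by_cases hall : ∀ i : G, orderOf i = 2 → i ∈ D
  · exact hB.commute_of_all_members hf hall ha hb h
  push Not at hall
  obtain ⟨k, hk, hkD⟩ := hall
  have fixed : ∀ j : G, orderOf j = 2 → j ∉ D → ∀ c ∈ D, ∀ e ∈ D, j * c = c * j → j * e = e * j →
      R c e → c * e = e * c := fun j hj hjD c hc e he cc ce hce => by
    obtain ⟨v, hv, hvc, hcv, hjv⟩ := htwo j c hj hjD hc cc
    exact hB.commute_in_centralizer hf ih hj hjD ⟨c, hc, v, hv, hvc.symm, hcv, cc, hjv⟩ c hc e he cc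
      ce hce
  obtain ⟨u, hu, -, -, -, cku, -⟩ := hR.twoBlocks hf hD hk hkD
  suffices key : ∀ x ∈ D, R x u → x * u = u * x by
    obtain ⟨g, rfl⟩ := (hR.isRootInvolutionClass hD).2.2 u hu a ha
    have h1 := hR.conj g⁻¹ (hR.symm h)
    rw [show g⁻¹ * (g * u * g⁻¹) * g⁻¹⁻¹ = u by group] at h1
    have h2 := (conj_comm_iff g).2 (key _ (hD.conj_mem b hb g⁻¹) h1)
    rw [show g * (g⁻¹ * b * g⁻¹⁻¹) * g⁻¹ = b by group] at h2
    exact h2.symm
  by_contra hcon
  push Not at hcon
  obtain ⟨x₀, hx₀, hx₀u, hnc⟩ := hcon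
  -- a member of the block with odd product with `u`
  obtain ⟨x, hx, hxu, hodd⟩ : ∃ x, x ∈ D ∧ R x u ∧ Cfsg.OddAdj D u x := by
    by_cases ho : Cfsg.OddAdj D u x₀
    · exact ⟨x₀, hx₀, hx₀u, ho⟩
    obtain ⟨hc, c1, c2, e1, -, -⟩ := four_facts hD hu hx₀ (four_of hD hu hx₀ (fun e => hnc e.symm) ho)
    set c := (u * x₀) ^ 2 with hcdef
    have hcu : c ≠ u := fun e => hnc (by rw [← e]; exact c2.eq)
    have hsame : c ∉ Cfsg.sameCommutingClass D u := fun h' => by
      have hmem : x₀ ∈ Cfsg.commutingMembers D c := ⟨hx₀, c2.eq⟩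
      rw [← h'.2] at hmem
      exact hnc hmem.2
    have hcuD : c * u ∈ D := by rw [← c1.eq]; exact hB.prod hu hc hcu.symm c1.eq
    obtain ⟨x', ⟨hx', h4⟩, h3⟩ := Cfsg.Agent.S5047.result hD (hR.oddConnected hD) hu
      (show c ∈ Cfsg.productPartners D u from ⟨⟨hc, c1.eq.symm, hcu⟩, hcuD⟩) hsame
    refine ⟨x', hx', hR.trans (hR.symm (hR.rel_of_four hD hc hx' h4)) (hR.of_commute hc hu c1.eq.symm),
      hu, hx', fun e => ?_, by rw [h3]; decide⟩
    rw [← e, mul_self hD hu, orderOf_one] at h3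
    exact absurd h3 (by decide)
  have hnc : x * u ≠ u * x := fun e =>
    commute_not_odd hD hu hx hodd.2.2.1 e.symm hodd.2.2.2
  have si := CfsgLib.Invol.invol_mul_self hk
  have ki := CfsgLib.Invol.invol_inv hk
  have hkx : R (k * x * k⁻¹) x := by
    have h1 := hR.conj k hxu
    rw [show k * u * k⁻¹ = u by rw [cku, mul_inv_cancel_right]] at h1
    exact hR.trans h1 (hR.symm hxu)
  have hx' := hD.conj_mem x hx k
  -- a fixed member commuting with `x` contradicts the odd product
  have nofix : ∀ m ∈ D, k * m = m * k → m * x = x * m → False := fun m hm hkm hmx =>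
    hB.not_odd hm (fixed k hk hkD m hm u hu hkm cku (hR.trans (hR.of_commute hm hx hmx) hxu)) hmx hodd
  have swap : k * (k * x * k⁻¹) * k⁻¹ = x := by
    rw [ki, show k * (k * x * k) * k = k * k * x * (k * k) by simp only [mul_assoc], si, one_mul,
      mul_one]
  rcases hD.pair x hx _ hx' with hc | hw | ⟨h4, -⟩
  · by_cases he : x = k * x * k⁻¹
    · exact hnc (fixed k hk hkD x hx u hu (mul_inv_eq_iff_eq_mul.1 he.symm) cku hxu)
    · have hconj : k * (x * (k * x * k⁻¹)) * k⁻¹ = x * (k * x * k⁻¹) := by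
        rw [show k * (x * (k * x * k⁻¹)) * k⁻¹ = k * x * k⁻¹ * (k * (k * x * k⁻¹) * k⁻¹) by group,
          swap, hc]
      refine nofix _ (hB.prod hx hx' he hc) (mul_inv_eq_iff_eq_mul.1 hconj) ?_
      exact (((Commute.refl x).mul_right hc).symm).eq
  · obtain ⟨g, hg, hkg, hswap⟩ := exists_middle hk (hD.orderOf_eq x hx) hw
    set y := g * x * g⁻¹ with hy
    have hyD : y ∈ D := hD.conj_mem x hx g
    have hyx : R y x := (hR.mem_stab hx).1 (Subgroup.zpowers_le.2
      (mul_mem (hR.mem_stab_of_rel hx (hR.refl hx)) (hR.mem_stab_of_rel hx hkx)) hg)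
    have hyxc : y * x ≠ x * y := fun e => by
      rw [e, mul_assoc, mul_self hD hyD, mul_one] at hswap
      exact hnc (fixed k hk hkD x hx u hu (mul_inv_eq_iff_eq_mul.1 hswap.symm) cku hxu)
    have hky : k ≠ y := fun e => hkD (e ▸ hyD)
    have hj : orderOf (k * y) = 2 := CfsgLib.Invol.invol_iff.2
      ⟨by rw [mul_assoc, ← mul_assoc y k, ← hkg, mul_assoc k y y, mul_self hD hyD, mul_one, si],
        fun h => hky (by rw [← ki]; exact inv_eq_of_mul_eq_one_right h)⟩
    have hjc : k * y * y = y * (k * y) :=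
      (Commute.mul_left (show Commute k y from hkg) (Commute.refl y)).eq
    have hjD : k * y ∉ D := fun hmem => by
      have h1 := hB.prod hmem hyD (fun h => CfsgLib.Invol.invol_ne_one hk (mul_eq_right.1 h)) hjc
      rw [mul_assoc, mul_self hD hyD, mul_one] at h1
      exact hkD h1
    have hjx : k * y * x = x * (k * y) := by
      calc k * y * x = k * (y * x * y) * (y⁻¹ * (k⁻¹ * k)) := by group
        _ = x * (k * y) := by
          rw [hswap, inv_mul_cancel, mul_one, inv_eq hD hyD, ki]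
          simp only [← mul_assoc, si, one_mul]
    exact hyxc (fixed _ hj hjD y hyD x hx hjc hjx hyx)
  · obtain ⟨hm, c1, -, -, -, -⟩ := four_facts hD hx hx' h4
    refine nofix _ hm (mul_inv_eq_iff_eq_mul.1 ?_) c1.eq.symm
    rw [← conj_pow, show k * (x * (k * x * k⁻¹)) * k⁻¹ = k * x * k⁻¹ * (k * (k * x * k⁻¹) * k⁻¹) by
      group, swap]
    have h1 := inv_eq hD hm
    rw [← inv_pow, mul_inv_rev, inv_eq hD hx, inv_eq hD hx'] at h1
    exact h1

end IsBlockSystem

end CfsgLib.RootInvol
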