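import Cfsg.Agent.Lib.RootSub.Blocks.Basic
import Cfsg.Agent.Lib.RootSub.Blocks.Middle
import Cfsg.Agent.S5047

/-!
# Members flipped by an involution outside the set

If an involution outside `D` maps the member `v` to a commuting member `v' ≠ v`, every member commuting
with `v v'` commutes with `v`.
-/

set_option autoImplicit false

namespace CfsgLib.RootInvol

variable {G : Type*} [Group G] {D : Set G} {R : G → G → Prop}

theorem IsBlockSystem.commute_of_flip [Finite G] (hB : IsBlockSystem D R)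
    (hind : ∀ i : G, orderOf i = 2 → i ∉ D →
      (∃ u ∈ D, ∃ v ∈ D, u ≠ v ∧ u * v = v * u ∧ i * u = u * i ∧ i * v = v * i) →
      ∀ a ∈ D, ∀ b ∈ D, i * a = a * i → i * b = b * i → R a b → a * b = b * a)
    {i v v' u : G} (hi : orderOf i = 2) (hiD : i ∉ D) (hv : v ∈ D) (hflip : i * v * i⁻¹ = v')
    (hne : v' ≠ v) (hc : v * v' = v' * v) (hu : v * v' = u) {w : G} (hw : w ∈ D)
    (hwu : w * u = u * w) : w * v = v * w := by
  by_contra hwv
  have hD := hB.root
  have hconn : Cfsg.IsConnectedSet (Cfsg.OddAdj D) D := hB.rel.oddConnected hD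
  have hv' : v' ∈ D := hflip ▸ hD.conj_mem v hv i
  have huD : u ∈ D := hu ▸ hB.prod hv hv' (Ne.symm hne) hc
  have sv := mul_self hD hv
  have sv' := mul_self hD hv'
  have huv : u * v = v' := by rw [← hu, hc, mul_assoc, sv, mul_one]
  have hvu : v * u = v' := by rw [← hu, ← mul_assoc, sv, one_mul]
  have nuv : v ≠ u := fun e => by
    rw [← e, sv] at huv
    have := hD.orderOf_eq v' hv'
    rw [← huv, orderOf_one] at this
    exact absurd this (by decide)
  have nuv' : v' ≠ u := fun e => by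
    rw [e, mul_eq_left] at huv
    have := hD.orderOf_eq v hv
    rw [huv, orderOf_one] at this
    exact absurd this (by decide)
  -- a member moving `u` and fixing `v`
  obtain ⟨x, ⟨hx, h4⟩, h3⟩ := Cfsg.Agent.S5047.result hD hconn huD
    (b := v) ⟨⟨hv, hvu.trans huv.symm, nuv⟩, hvu ▸ hv'⟩ (fun h => hwv (by
      have h1 : w ∈ Cfsg.commutingMembers D u := ⟨hw, hwu⟩
      rw [h.2] at h1
      exact h1.2))
  rw [orderOf_mul_comm hD hx hv] at h4
  obtain ⟨hq, -, cvq, -, -, -⟩ := four_facts hD hx hv h4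
  have hsq := propagate hD huD hx hv h3 (huv.trans hvu.symm) (huv ▸ hv') h4
  set q := (x * v) ^ 2
  have sq := mul_self hD hq
  have qi := inv_eq hD hq
  have su := mul_self hD huD
  have qv : q * v * q⁻¹ = v := by rw [qi, cvq.symm.eq, mul_assoc, sq, mul_one]
  have qu : q * u * q⁻¹ = v' := by
    rw [qi, ← huv, ← hsq, pow_two]
    simp only [← mul_assoc, su, one_mul]
  have qv' : q * v' * q⁻¹ = u := by
    rw [← qu, qi]
    simp only [mul_assoc, sq, mul_one]
    rw [← mul_assoc q q, sq, one_mul]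
  have si := CfsgLib.Invol.invol_mul_self hi
  have ii := CfsgLib.Invol.invol_inv hi
  have iv' : i * v' * i⁻¹ = v := by
    rw [← hflip, ii]
    simp only [mul_assoc, si, mul_one]
    rw [← mul_assoc i i, si, one_mul]
  have iu : i * u * i⁻¹ = u := by
    rw [← hu, ← conj_mul, hflip, iv', hc]
  set q' := i * q * i⁻¹ with hq'
  have hq'D : q' ∈ D := hD.conj_mem q hq i
  have e1 : ∀ a b c : G, i * b * i⁻¹ = a → q * b * q⁻¹ = c → q' * a * q'⁻¹ = i * c * i⁻¹ := by
    intro a b c ha hc'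
    rw [← ha, ← hc', hq']
    group
  have q'u : q' * u * q'⁻¹ = v := (e1 u u v' iu qu).trans iv'
  have q'v : q' * v * q'⁻¹ = u := (e1 v v' u iv' qv').trans iu
  have q'v' : q' * v' * q'⁻¹ = v' := (e1 v' v v hflip qv).trans hflip
  -- `q q'` permutes the three members cyclically, so it has odd order
  set g := q * q' with hg
  have hgc : ∀ a b c : G, q' * a * q'⁻¹ = b → q * b * q⁻¹ = c → g * a * g⁻¹ = c := by
    intro a b c ha hb'
    rw [← hb', ← ha, hg]
    group
  have gu := hgc u v v q'u qv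
  have gv := hgc v u v' q'v qu
  have gv' := hgc v' v' u q'v' qv'
  have g2u : g ^ 2 * u * (g ^ 2)⁻¹ = v' := by
    rw [show g ^ 2 * u * (g ^ 2)⁻¹ = g * (g * u * g⁻¹) * g⁻¹ by
      simp only [pow_two, mul_inv_rev, mul_assoc], gu, gv]
  have g4u : g ^ 4 * u * (g ^ 4)⁻¹ = v := by
    rw [show g ^ 4 * u * (g ^ 4)⁻¹ = g * (g * (g ^ 2 * u * (g ^ 2)⁻¹) * g⁻¹) * g⁻¹ by group, g2u,
      gv', gu]
  have hodd : Odd (orderOf g) := by
    rcases hD.pair q hq q' hq'D with h | h | ⟨h, -⟩
    · have e : g ^ 2 = 1 := by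
        rw [hg, (show Commute q q' from h).mul_pow, pow_two, pow_two, sq, mul_self hD hq'D, one_mul]
      rw [e, one_mul, inv_one, mul_one] at g2u
      exact absurd g2u.symm nuv'
    · exact h
    · have e : g ^ 4 = 1 := by rw [← h, hg, pow_orderOf_eq_one]
      rw [e, one_mul, inv_one, mul_one] at g4u
      exact absurd g4u.symm nuv
  obtain ⟨h, hh, hcom, hswap⟩ := exists_middle hi (hD.orderOf_eq q hq) hodd
  rw [← hq'] at hh hswap
  set u1 := h * q * h⁻¹ with hu1
  have hu1D : u1 ∈ D := hD.conj_mem q hq h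
  have u1i := inv_eq hD hu1D
  have su1 := mul_self hD hu1D
  -- the middle fixes `u` and swaps `v`, `v'`
  set T : Set G := {u, v, v'} with hT
  have hinvol : ∀ a ∈ D, (∀ z ∈ T, a * z * a⁻¹ ∈ T) → a ∈ Subgroup.normalizer T := by
    intro a ha hmap
    rw [Subgroup.mem_set_normalizer_iff]
    intro z
    refine ⟨hmap z, fun hz => ?_⟩
    have := hmap _ hz
    rwa [inv_eq hD ha, show a * (a * z * a) * a = a * a * z * (a * a) by simp only [mul_assoc],
      mul_self hD ha, one_mul, mul_one] at this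
  have hqN : q ∈ Subgroup.normalizer T := hinvol q hq (by
    rintro z (rfl | rfl | rfl)
    · rw [qu]; simp [hT]
    · rw [qv]; simp [hT]
    · rw [qv']; simp [hT])
  have hq'N : q' ∈ Subgroup.normalizer T := hinvol q' hq'D (by
    rintro z (rfl | rfl | rfl)
    · rw [q'u]; simp [hT]
    · rw [q'v]; simp [hT]
    · rw [q'v']; simp [hT])
  have hhN : h ∈ Subgroup.normalizer T :=
    Subgroup.zpowers_le.2 (mul_mem hqN hq'N) hh
  have hu1N : u1 ∈ Subgroup.normalizer T := mul_mem (mul_mem hhN hqN) (inv_mem hhN)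
  have hz : u1 * v * u1⁻¹ ∈ T := (Subgroup.mem_set_normalizer_iff.1 hu1N v).1 (by simp [hT])
  have hfix : q' * (u1 * v * u1⁻¹) * q'⁻¹ = u1 * v * u1⁻¹ := by
    have e : q' = u1 * q * u1⁻¹ := by rw [u1i, hswap]
    conv_rhs => rw [← qv]
    rw [e]
    group
  have hu1v : u1 * v * u1⁻¹ = v' := by
    rcases hz with h' | h' | h'
    · rw [h', q'u] at hfix; exact absurd hfix nuv
    · rw [h', q'v] at hfix; exact absurd hfix.symm nuv
    · exact h'
  have hu1u : u1 * u * u1⁻¹ = u := by
    have hu1v' : u1 * v' * u1⁻¹ = v := by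
      rw [← hu1v, u1i]
      simp only [mul_assoc, su1, mul_one]
      rw [← mul_assoc u1 u1, su1, one_mul]
    rw [← hu, ← conj_mul, hu1v, hu1v', hc]
  -- `i u1` is an involution outside `D` centralising `u`, `v` and `u1`
  set j := i * u1 with hj
  have jconj : ∀ z : G, j * z * j⁻¹ = i * (u1 * z * u1⁻¹) * i⁻¹ := fun z => by rw [hj]; group
  have ju : j * u = u * j := mul_inv_eq_iff_eq_mul.1 (by rw [jconj, hu1u, iu])
  have jv : j * v = v * j := mul_inv_eq_iff_eq_mul.1 (by rw [jconj, hu1v, iv'])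
  have ju1 : j * u1 = u1 * j := ((show Commute i u1 from hcom).mul_left (Commute.refl u1)).eq
  have ju1i : j * u1 = i := by rw [hj, mul_assoc, su1, mul_one]
  have hjo : orderOf j = 2 := CfsgLib.Invol.invol_iff.2 ⟨by
    rw [hj, (show Commute u1 i from hcom.symm).mul_mul_mul_comm, si, su1, one_mul], fun e => hiD (by
      rw [← ju1i, e, one_mul]; exact hu1D)⟩
  have hjD : j ∉ D := fun hjD => by
    by_cases e : j = u1
    · rw [e, su1] at ju1i
      exact CfsgLib.Invol.invol_ne_one hi ju1i.symm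
    · exact hiD (ju1i ▸ hB.prod hjD hu1D e ju1)
  have hR : R v u1 := hB.rel.trans (hB.rel.of_commute hv huD (hvu.trans huv.symm))
    (hB.rel.symm (hB.rel.of_commute hu1D huD (mul_inv_eq_iff_eq_mul.1 hu1u)))
  have hcv := hind j hjo hjD ⟨u, huD, v, hv, Ne.symm nuv, huv.trans hvu.symm, ju, jv⟩
    v hv u1 hu1D jv ju1 hR
  apply hne
  rw [← hu1v, ← hcv, mul_inv_cancel_right]

end CfsgLib.RootInvol
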