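import Cfsg.Agent.Lib.RootSub.Chain
import Mathlib.GroupTheory.Perm.Cycle.Type
import Mathlib.GroupTheory.Abelianization.Defs

/-!
# Counting the swaps of involutions of perfect groups

In a perfect group every involution moves a multiple of four points.  A class of root involutions with
two commuting members whose product is a member generates a perfect group.
-/

set_option autoImplicit false

namespace CfsgLib.RootInvol

variable {G : Type*} [Group G]

theorem commutator_eq_top {D : Set G} (hcl : Cfsg.IsRootInvolutionClass D) {u v : G} (hu : u ∈ D)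
    (hv : v ∈ D) (huv : u * v ∈ D) : commutator G = ⊤ := by
  obtain ⟨hD, -, hconj⟩ := hcl
  have hof : ∀ {a b : G}, a ∈ D → b ∈ D → Abelianization.of a = Abelianization.of b := by
    intro a b ha hb
    obtain ⟨g, rfl⟩ := hconj a ha b hb
    rw [map_mul, map_mul, map_inv, mul_inv_cancel_comm]
  have h1 : Abelianization.of u = 1 := by
    have h := hof huv hu
    rwa [map_mul, hof hv hu, mul_eq_left] at h
  have hker : Subgroup.closure D ≤ (Abelianization.of : G →* Abelianization G).ker :=
    (Subgroup.closure_le _).2 fun a ha => by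
      rw [SetLike.mem_coe, MonoidHom.mem_ker, hof ha hu, h1]
  rw [hD.generates, Abelianization.ker_of] at hker
  exact top_le_iff.1 hker

/-- An involution of a perfect group moves a multiple of four points. -/
theorem four_dvd_card_moved {G Ω : Type*} [Group G] [MulAction G Ω] [Finite Ω]
    (hG : commutator G = ⊤) {k : G} (hk : k * k = 1) : 4 ∣ Nat.card {x : Ω // k • x ≠ x} := by
  classical
  let _ : Fintype Ω := Fintype.ofFinite Ω
  set σ : Equiv.Perm Ω := MulAction.toPermHom G Ω k with hσ
  have hs : Equiv.Perm.sign σ = 1 := by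
    have h : commutator G ≤ (Equiv.Perm.sign.comp (MulAction.toPermHom G Ω)).ker :=
      Abelianization.commutator_subset_ker _
    have := h (hG ▸ Subgroup.mem_top k)
    rwa [MonoidHom.mem_ker] at this
  have hcard : Nat.card {x : Ω // k • x ≠ x} = σ.support.card := by
    rw [← Fintype.card_coe, ← Nat.card_eq_fintype_card]
    exact Nat.card_congr (Equiv.subtypeEquivRight fun x => by
      rw [Equiv.Perm.mem_support, hσ, MulAction.toPermHom_apply, MulAction.toPerm_apply])
  have h2 : ∀ n ∈ σ.cycleType, n = 2 := fun n hn => by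
    have hd : n ∣ 2 := (Equiv.Perm.dvd_of_mem_cycleType hn).trans (orderOf_dvd_of_pow_eq_one (by
      rw [pow_two, hσ, ← map_mul, hk, map_one]))
    exact le_antisymm (Nat.le_of_dvd two_pos hd) (Equiv.Perm.two_le_of_mem_cycleType hn)
  obtain ⟨m, hm⟩ : ∃ m, σ.cycleType = Multiset.replicate m 2 :=
    ⟨_, Multiset.eq_replicate_card.2 h2⟩
  rw [hcard, ← Equiv.Perm.sum_cycleType, hm, Multiset.sum_replicate, smul_eq_mul]
  rw [Equiv.Perm.sign_of_cycleType, hm, Multiset.sum_replicate, Multiset.card_replicate,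
    smul_eq_mul] at hs
  rcases Nat.even_or_odd (m * 2 + m) with ⟨l, hl⟩ | h
  · omega
  · rw [h.neg_one_pow] at hs
    exact absurd hs (by decide)

theorem card_moved_add_card_fixed {G Ω : Type*} [Group G] [MulAction G Ω] [Finite Ω] (k : G) :
    Nat.card {x : Ω // k • x ≠ x} + Nat.card {x : Ω // k • x = x} = Nat.card Ω := by
  classical
  rw [add_comm, ← Nat.card_sum]
  exact Nat.card_congr (Equiv.sumCompl fun x : Ω => k • x = x)

/-- A `G`-set over a class: all fibres are alike. -/
theorem card_eq_mul_fibre {Ω : Type*} [MulAction G Ω] {D : Set G} (π : Ω → G) (hπD : ∀ x, π x ∈ D)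
    (hπ : ∀ (g : G) (x : Ω), π (g • x) = g * π x * g⁻¹) {u : G} (hu : u ∈ D)
    (hcl : Cfsg.IsRootInvolutionClass D) :
    Nat.card Ω = Nat.card D * Nat.card {x : Ω // π x = u} := by
  choose g hg using fun a : D => hcl.2.2 u hu a.1 a.2
  rw [← Nat.card_prod]
  refine Nat.card_congr
    { toFun := fun x => (⟨π x, hπD x⟩, ⟨(g ⟨π x, hπD x⟩)⁻¹ • x, by
        rw [hπ]
        have h : π x = g ⟨π x, hπD x⟩ * u * (g ⟨π x, hπD x⟩)⁻¹ := hg ⟨π x, hπD x⟩
        generalize g ⟨π x, hπD x⟩ = q at h ⊢
        rw [h]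
        group⟩)
      invFun := fun p => g p.1 • p.2.1
      left_inv := fun x => smul_inv_smul _ x
      right_inv := fun p => ?_ }
  have h : π (g p.1 • p.2.1) = p.1 := by rw [hπ, p.2.2, ← hg]
  have e : (⟨π (g p.1 • p.2.1), hπD _⟩ : D) = p.1 := Subtype.ext h
  refine Prod.ext e (Subtype.ext ?_)
  show (g ⟨π (g p.1 • p.2.1), hπD _⟩)⁻¹ • g p.1 • p.2.1 = p.2.1
  rw [e, inv_smul_smul]

/-- A free action of a four group on a finite set. -/
theorem four_dvd_ncard {α : Type*} [Finite α] (s t : α → α) (L : Set α)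
    (hL : ∀ x ∈ L, s x ∈ L ∧ t x ∈ L ∧ s (s x) = x ∧ t (t x) = x ∧ s (t x) = t (s x) ∧
      s x ≠ x ∧ t x ≠ x ∧ s x ≠ t x) : 4 ∣ L.ncard := by
  classical
  induction h : L.ncard using Nat.strong_induction_on generalizing L with
  | _ n ih =>
    subst h
    rcases L.eq_empty_or_nonempty with rfl | ⟨x, hx⟩
    · simp
    obtain ⟨hsx, htx, hss, htt, hst, n1, n2, n3⟩ := hL x hx
    obtain ⟨hstx, -, -, htst, -, -, -, -⟩ := hL (t x) htx
    obtain ⟨hstL, -, -, -, -, -, -, n4⟩ := hL (s x) hsx
    have hB : ({x, s x, t x, s (t x)} : Set α) ⊆ L :=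
      Set.insert_subset hx (Set.insert_subset hsx (Set.insert_subset htx
        (Set.singleton_subset_iff.2 hstx)))
    have hBc : ({x, s x, t x, s (t x)} : Set α).ncard = 4 := by
      have m1 : x ≠ s (t x) := fun e => n3 (by
        have := congrArg s e; rw [(hL (t x) htx).2.2.1] at this; exact this)
      have m2 : s x ≠ s (t x) := fun e => n2 (by
        have := congrArg s e; rw [hss, (hL (t x) htx).2.2.1] at this; exact this.symm)
      have m3 : t x ≠ s (t x) := fun e => (hL (t x) htx).2.2.2.2.2.1 e.symm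
      rw [Set.ncard_insert_of_notMem (by simp [Ne.symm n1, Ne.symm n2, m1]),
        Set.ncard_insert_of_notMem (by simp [n3, m2]), Set.ncard_pair m3]
    have hsB : ∀ y ∈ ({x, s x, t x, s (t x)} : Set α), s y ∈ ({x, s x, t x, s (t x)} : Set α) ∧
        t y ∈ ({x, s x, t x, s (t x)} : Set α) := by
      rintro y (rfl | rfl | rfl | rfl)
      · simp
      · rw [hss, ← hst]; simp
      · rw [htt]; simp
      · rw [(hL (t x) htx).2.2.1, ← (hL (t x) htx).2.2.2.2.1, htt]; simp
    have hrest := ih (L \ {x, s x, t x, s (t x)}).ncard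
      (Set.ncard_lt_ncard (Set.sdiff_ssubset_left_iff.2 ⟨x, hx, Set.mem_insert _ _⟩))
      (L \ {x, s x, t x, s (t x)})
      (fun y hy => by
        obtain ⟨h1, h2, h3, h4, h5⟩ := hL y hy.1
        refine ⟨⟨h1, fun h => hy.2 ?_⟩, ⟨h2, fun h => hy.2 ?_⟩, h3, h4, h5⟩
        · have := (hsB _ h).1; rwa [h3] at this
        · have := (hsB _ h).2; rwa [h4] at this) rfl
    rw [← Set.ncard_sdiff_add_ncard_of_subset hB, hBc]
    exact Nat.dvd_add hrest (dvd_refl 4)

end CfsgLib.RootInvol
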