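import Cfsg.Agent.Lib.RootSub.Blocks.Flip
import Cfsg.Agent.Lib.RootSub.Blocks.Swaps
import Cfsg.Agent.Lib.RootSub.Blocks.Closure

/-!
# An involution outside `D` centralises commuting members

If the members centralised by an outside involution `k` had no two commuting members, the members
commuting with such a member `u` would be `u` and four more in two pairs exchanged by `k`; the swaps
of these pairs then contradict perfection.
-/

set_option autoImplicit false
set_option linter.style.haveILetI false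

open scoped commutatorElement

namespace CfsgLib.RootInvol

variable {G : Type*} [Group G] {D : Set G} {R : G → G → Prop}

/-- The other members commuting with `u`. -/
def others (D : Set G) (u : G) : Set G := {w | w ∈ D ∧ w ≠ u ∧ u * w = w * u}

/-- A member paired with the rest of a line through it. -/
def IsLinePoint (D : Set G) (p : G × Set G) : Prop :=
  ∃ a ∈ D, ∃ b ∈ D, a ≠ b ∧ a * b = b * a ∧ p = (a, {b, a * b})

theorem mul_conj_self {a b : G} (hb : b * b = 1) : a * b * a = b * (b * a) ^ 2 := by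
  rw [pow_two]
  simp only [← mul_assoc, hb, one_mul]

theorem commutator_eq_sq {a b : G} (ha : a⁻¹ = a) (hb : b⁻¹ = b) : ⁅a, b⁆ = (a * b) ^ 2 := by
  rw [commutatorElement_def, ha, hb, pow_two, mul_assoc (a * b)]

theorem conj_injective {a b : G} (g : G) (h : g * a * g⁻¹ = g * b * g⁻¹) : a = b :=
  mul_left_cancel (mul_right_cancel h)

namespace IsBlockSystem

/-- The outside involution `k` centralises `u` and no other member commuting with `u`. -/
private structure Lone (D : Set G) (R : G → G → Prop) (k u : G) : Prop where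
  system : IsBlockSystem D R
  hind : ∀ i : G, orderOf i = 2 → i ∉ D →
    (∃ u ∈ D, ∃ v ∈ D, u ≠ v ∧ u * v = v * u ∧ i * u = u * i ∧ i * v = v * i) →
    ∀ a ∈ D, ∀ b ∈ D, i * a = a * i → i * b = b * i → R a b → a * b = b * a
  htwo : ∀ i : G, orderOf i = 2 → i ∉ D → TwoBlocks D R i
  invol : orderOf k = 2
  notMem : k ∉ D
  mem : u ∈ D
  comm : k * u = u * k
  none_fixed : ∀ v ∈ D, v ≠ u → u * v = v * u → k * v ≠ v * k

variable {k u : G}

private theorem Lone.eq_of_commute [Finite G] (h : Lone D R k u) {a b : G} (ha : a ∈ D) (hb : b ∈ D)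
    (ca : k * a = a * k) (cb : k * b = b * k) (hc : a * b = b * a) : a = b := by
  by_contra hne
  obtain ⟨g, hg, hgu⟩ := h.system.rel.conj_in_centralizer h.system.root (h.htwo k h.invol h.notMem)
    ha h.mem ca h.comm
  refine h.none_fixed (g * b * g⁻¹) (h.system.root.conj_mem b hb g)
    (fun e => hne (conj_injective g (hgu.trans e.symm))) ?_ ?_
  · rw [← hgu]
    exact (conj_comm_iff g).2 hc
  · show Commute k (g * b * g⁻¹)
    exact (hg.symm.mul_right cb).mul_right hg.symm.inv_right

private theorem Lone.four_dvd_others [Finite G] (h : Lone D R k u)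
    (hperfect : commutator G = ⊤) :
    Odd (Nat.card D) ∧ 4 ∣ (others D u).ncard := by
  have hD := h.system.root
  have hcl := h.system.rel.isRootInvolutionClass hD
  have su := mul_self hD h.mem
  -- the members commuting with `u` are `u` and pairs
  have hstep : ∀ w ∈ others D u, u * w ∈ others D u ∧ u * w ≠ w := by
    intro w hw
    refine ⟨⟨h.system.prod h.mem hw.1 (Ne.symm hw.2.1) hw.2.2, fun e => ?_, ?_⟩, fun e => ?_⟩
    · have := hD.orderOf_eq w hw.1
      rw [mul_eq_left.1 e, orderOf_one] at this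
      exact absurd this (by decide)
    · rw [← mul_assoc, su, one_mul, mul_assoc, ← hw.2.2, ← mul_assoc, su, one_mul]
    · have := hD.orderOf_eq u h.mem
      rw [mul_eq_right.1 e, orderOf_one] at this
      exact absurd this (by decide)
  have heven : Even (others D u).ncard := by
    classical
    letI : Fintype (others D u) := Fintype.ofFinite _
    let σ : Equiv.Perm (others D u) := Function.Involutive.toPerm
      (fun w => ⟨u * w.1, (hstep _ w.2).1⟩)
      (fun w => Subtype.ext (by show u * (u * w.1) = w.1; rw [← mul_assoc, su, one_mul]))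
    rw [← Nat.card_coe_set_eq, Nat.card_eq_fintype_card, even_iff_two_dvd]
    haveI : Fact (Nat.Prime 2) := ⟨Nat.prime_two⟩
    by_contra hodd
    obtain ⟨w, hw⟩ := Equiv.Perm.exists_fixed_point_of_prime (n := 1) hodd (σ := σ) (by
      rw [pow_one, pow_two]
      exact Equiv.ext fun w => Subtype.ext (by
        show u * (u * w.1) = w.1
        rw [← mul_assoc, su, one_mul]))
    exact (hstep _ w.2).2 (congrArg Subtype.val hw)
  -- `|D|` is odd
  letI : MulAction G D :=
    { smul := fun g p => ⟨g * p.1 * g⁻¹, hD.conj_mem _ p.2 g⟩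
      one_smul := fun p => Subtype.ext (by show 1 * p.1 * 1⁻¹ = p.1; simp)
      mul_smul := fun g g' p => Subtype.ext (by
        show g * g' * p.1 * (g * g')⁻¹ = g * (g' * p.1 * g'⁻¹) * g⁻¹; group) }
  have hfix : Nat.card {p : D // u • p = p} = (others D u).ncard + 1 := by
    rw [← Set.ncard_insert_of_notMem (s := others D u) (a := u) (fun hh => hh.2.1 rfl),
      ← Nat.card_coe_set_eq]
    refine Nat.card_congr
      { toFun := fun p => ⟨p.1.1, ?_⟩
        invFun := fun w => ⟨⟨w.1, ?_⟩, ?_⟩
        left_inv := fun p => rfl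
        right_inv := fun w => rfl }
    · by_cases e : p.1.1 = u
      · exact Or.inl e
      · exact Or.inr ⟨p.1.2, e, mul_inv_eq_iff_eq_mul.1 (congrArg Subtype.val p.2)⟩
    · rcases w.2 with e | hw
      · rw [e]; exact h.mem
      · exact hw.1
    · refine Subtype.ext ?_
      show u * w.1 * u⁻¹ = w.1
      rcases w.2 with e | hw
      · rw [e, mul_inv_cancel_right]
      · rw [hw.2.2, mul_inv_cancel_right]
  have hDodd : Odd (Nat.card D) := by
    have h1 := four_dvd_card_moved (Ω := D) hperfect su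
    rw [← card_moved_add_card_fixed (Ω := D) u, hfix]
    obtain ⟨a, ha⟩ := heven
    obtain ⟨b, hb⟩ := h1
    exact ⟨2 * b + a, by omega⟩
  -- `k` fixes no ordered pair of commuting members
  let Ω := {p : G × G // p.1 ∈ D ∧ p.2 ∈ D ∧ p.1 ≠ p.2 ∧ p.1 * p.2 = p.2 * p.1}
  letI : MulAction G Ω :=
    { smul := fun g p => ⟨(g * p.1.1 * g⁻¹, g * p.1.2 * g⁻¹), hD.conj_mem _ p.2.1 g,
        hD.conj_mem _ p.2.2.1 g, fun e => p.2.2.2.1 (conj_injective g e),
        (conj_comm_iff g).2 p.2.2.2.2⟩
      one_smul := fun p => Subtype.ext (by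
        show (1 * p.1.1 * 1⁻¹, 1 * p.1.2 * 1⁻¹) = p.1; simp)
      mul_smul := fun g g' p => Subtype.ext (by
        show (g * g' * p.1.1 * (g * g')⁻¹, g * g' * p.1.2 * (g * g')⁻¹) =
          (g * (g' * p.1.1 * g'⁻¹) * g⁻¹, g * (g' * p.1.2 * g'⁻¹) * g⁻¹)
        refine Prod.ext ?_ ?_ <;> group) }
  have hcard : Nat.card Ω = Nat.card D * (others D u).ncard := by
    rw [card_eq_mul_fibre (Ω := Ω) (fun p => p.1.1) (fun p => p.2.1) (fun g p => rfl) h.mem hcl,
      ← Nat.card_coe_set_eq]
    congr 1
    exact Nat.card_congr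
      { toFun := fun p => ⟨p.1.1.2, p.1.2.2.1, fun e => p.1.2.2.2.1 (p.2.trans e.symm), by
          have := p.1.2.2.2.2; rwa [p.2] at this⟩
        invFun := fun w => ⟨⟨(u, w.1), h.mem, w.2.1, Ne.symm w.2.2.1, w.2.2.2⟩, rfl⟩
        left_inv := fun p => Subtype.ext (Subtype.ext (Prod.ext p.2.symm rfl))
        right_inv := fun w => rfl }
  have h4 := four_dvd_card_moved (Ω := Ω) hperfect (CfsgLib.Invol.invol_mul_self h.invol)
  rw [Nat.card_congr (Equiv.subtypeUnivEquiv fun p e => p.2.2.2.1 (h.eq_of_commute p.2.1 p.2.2.1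
      (mul_inv_eq_iff_eq_mul.1 (congrArg (fun x : Ω => x.1.1) e))
      (mul_inv_eq_iff_eq_mul.1 (congrArg (fun x : Ω => x.1.2) e)) p.2.2.2.2)), hcard] at h4
  have hco : Nat.Coprime 4 (Nat.card D) := by
    rw [show 4 = 2 ^ 2 from rfl]
    exact Nat.Coprime.pow_left 2 (Nat.coprime_two_left.2 hDodd)
  exact ⟨hDodd, hco.dvd_of_dvd_mul_left h4⟩

/-- Each other member commuting with `u` has square `u` with its `k`-conjugate, and none is central. -/
private structure Sq (D : Set G) (k u : G) : Prop where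
  sq : ∀ v ∈ others D u, k * v * k⁻¹ ≠ v ∧ k * v * k⁻¹ ≠ u * v ∧
    v * (k * v * k⁻¹) ≠ k * v * k⁻¹ * v ∧ (v * (k * v * k⁻¹)) ^ 2 = u
  noncentral : ∀ v ∈ others D u, ∃ w ∈ others D u, w * v ≠ v * w

private theorem Lone.conj_others (h : Lone D R k u) {v : G} (hv : v ∈ others D u) :
    k * v * k⁻¹ ∈ others D u := by
  have hku : k * u * k⁻¹ = u := by rw [h.comm, mul_inv_cancel_right]
  refine ⟨h.system.root.conj_mem v hv.1 k, fun e => hv.2.1 (conj_injective k (e.trans hku.symm)), ?_⟩
  have := (conj_comm_iff k).2 hv.2.2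
  rwa [hku] at this

private theorem Lone.cases [Finite G] (h : Lone D R k u) {v : G} (hv : v ∈ others D u) :
    k * v * k⁻¹ ≠ v ∧ ((k * v * k⁻¹ = u * v ∧ ∀ w ∈ others D u, w * v = v * w) ∨
      (k * v * k⁻¹ ≠ u * v ∧ v * (k * v * k⁻¹) ≠ k * v * k⁻¹ * v ∧
        (v * (k * v * k⁻¹)) ^ 2 = u)) := by
  have hD := h.system.root
  have kk := CfsgLib.Invol.invol_mul_self h.invol
  have ki := CfsgLib.Invol.invol_inv h.invol
  have hne : k * v * k⁻¹ ≠ v := fun e =>
    h.none_fixed v hv.1 hv.2.1 hv.2.2 (mul_inv_eq_iff_eq_mul.1 e)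
  refine ⟨hne, ?_⟩
  obtain ⟨hv'D, -, cv'⟩ := h.conj_others hv
  set v' := k * v * k⁻¹ with hv'
  have hback : k * v' * k⁻¹ = v := by
    rw [hv', ki]
    simp only [mul_assoc, kk, mul_one]
    rw [← mul_assoc k k, kk, one_mul]
  by_cases hc : v * v' = v' * v
  · have hm := h.system.prod hv.1 hv'D (Ne.symm hne) hc
    have e : u = v * v' := h.eq_of_commute h.mem hm h.comm
      (mul_inv_eq_iff_eq_mul.1 (by rw [← conj_mul, ← hv', hback, hc]))
      ((show Commute u v from hv.2.2).mul_right cv').eq
    left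
    refine ⟨by rw [e, hc, mul_assoc, mul_self hD hv.1, mul_one], fun w hw => ?_⟩
    exact h.system.commute_of_flip h.hind h.invol h.notMem hv.1 hv'.symm hne hc e.symm hw.1
      hw.2.2.symm
  · right
    have o := h.system.four_of_commute hv.1 hv'D h.mem hv.2.2 cv' hc
    obtain ⟨hm, -, -, -, -, -⟩ := four_facts hD hv.1 hv'D o
    refine ⟨fun e => hc ?_, hc, (h.eq_of_commute h.mem hm h.comm (mul_inv_eq_iff_eq_mul.1 ?_) ?_).symm⟩
    · rw [e]
      exact ((show Commute v u from hv.2.2.symm).mul_right (Commute.refl v)).eq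
    · rw [← conj_pow, ← conj_mul, ← hv', hback, ← inv_eq hD hm, ← inv_pow, mul_inv_rev,
        inv_eq hD hv.1, inv_eq hD hv'D]
    · exact (((show Commute u v from hv.2.2).mul_right cv').pow_right 2).eq

private theorem Lone.sq_facts [Finite G] (h : Lone D R k u) (h4 : 4 ∣ (others D u).ncard) :
    Sq D k u := by
  haveI : Fact (Nat.Prime 2) := ⟨Nat.prime_two⟩
  have hD := h.system.root
  have kk := CfsgLib.Invol.invol_mul_self h.invol
  have ki := CfsgLib.Invol.invol_inv h.invol
  have su := mul_self hD h.mem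
  have hu1 : u ≠ 1 := fun e => by
    have := hD.orderOf_eq u h.mem
    rw [e, orderOf_one] at this
    exact absurd this (by decide)
  have hku : k * u * k⁻¹ = u := by rw [h.comm, mul_inv_cancel_right]
  have hback : ∀ x : G, k * (k * x * k⁻¹) * k⁻¹ = x := fun x => by
    rw [ki]
    simp only [mul_assoc, kk, mul_one]
    rw [← mul_assoc k k, kk, one_mul]
  have hu' : ∀ x : G, u * (u * x) = x := fun x => by rw [← mul_assoc, su, one_mul]
  have hstep : ∀ w ∈ others D u, u * w ∈ others D u := fun w hw =>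
    ⟨h.system.prod h.mem hw.1 (Ne.symm hw.2.1) hw.2.2, fun e => by
      have := hD.orderOf_eq w hw.1
      rw [mul_eq_left.1 e, orderOf_one] at this
      exact absurd this (by decide), by
      rw [hu', mul_assoc, ← hw.2.2, hu']⟩
  set K : Set G := {v | v ∈ others D u ∧ ∀ w ∈ others D u, w * v = v * w} with hK
  have hKsub : K ⊆ others D u := fun v hv => hv.1
  -- off `K` the four group of `k` and `u` acts freely
  have hfree : 4 ∣ (others D u \ K).ncard := by
    refine four_dvd_ncard (fun x => k * x * k⁻¹) (fun x => u * x) _ fun x hx => ?_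
    obtain ⟨hne, hcases⟩ := h.cases hx.1
    have hnK : k * x * k⁻¹ ≠ u * x := by
      rcases hcases with ⟨-, hall⟩ | ⟨h', -⟩
      · exact absurd ⟨hx.1, hall⟩ hx.2
      · exact h'
    refine ⟨⟨h.conj_others hx.1, fun hK' => hx.2 ⟨hx.1, fun w hw => ?_⟩⟩,
      ⟨hstep x hx.1, fun hK' => hx.2 ⟨hx.1, fun w hw => ?_⟩⟩, hback x, hu' x, ?_, hne, ?_, hnK⟩
    · have h1 := (conj_comm_iff k).2 (hK'.2 _ (h.conj_others hw))
      rwa [hback, hback] at h1
    · have h1 : Commute w (u * (u * x)) :=
        Commute.mul_right (show Commute w u from hw.2.2.symm) (hK'.2 w hw)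
      rwa [hu'] at h1
    · rw [← conj_mul, hku]
    · exact fun e => hu1 (mul_eq_right.1 e)
  have hK4 : 4 ∣ K.ncard := by
    rw [← Set.ncard_sdiff_add_ncard_of_subset hKsub] at h4
    exact (Nat.dvd_add_right hfree).1 h4
  -- `K` with `u` and `1` is an elementary abelian group
  have hcomm : ∀ {a b : G}, a ∈ insert (1 : G) (insert u K) → b ∈ insert (1 : G) (insert u K) →
      Commute a b := by
    rintro a b (rfl | rfl | ha) (rfl | rfl | hb)
    any_goals first | exact Commute.one_left _ | exact Commute.one_right _ | exact Commute.refl _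
    · exact hb.1.2.2
    · exact ha.1.2.2.symm
    · exact hb.2 a ha.1
  have hsq : ∀ {a : G}, a ∈ insert (1 : G) (insert u K) → a * a = 1 := by
    rintro a (rfl | rfl | ha)
    exacts [mul_one 1, su, mul_self hD ha.1.1]
  let P : Subgroup G :=
    { carrier := insert (1 : G) (insert u K)
      one_mem' := Set.mem_insert _ _
      inv_mem' := fun {a} ha => by
        rw [inv_eq_of_mul_eq_one_right (hsq ha)]; exact ha
      mul_mem' := fun {a b} ha hb => by
        rcases ha with rfl | rfl | ha
        · rwa [one_mul]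
        · rcases hb with rfl | rfl | hb
          · rw [mul_one]; exact Or.inr (Or.inl rfl)
          · rw [su]; exact Or.inl rfl
          · refine Or.inr (Or.inr ⟨hstep b hb.1, fun w hw => ?_⟩)
            exact (Commute.mul_right (show Commute w a from hw.2.2.symm) (hb.2 w hw)).eq
        · rcases hb with rfl | rfl | hb
          · rw [mul_one]; exact Or.inr (Or.inr ha)
          · refine Or.inr (Or.inr ?_)
            rw [show a * b = b * a from ha.1.2.2.symm]
            exact ⟨hstep a ha.1, fun w hw =>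
              (Commute.mul_right (show Commute w b from hw.2.2.symm) (ha.2 w hw)).eq⟩
          · by_cases e : a = b
            · rw [e, mul_self hD hb.1.1]; exact Or.inl rfl
            by_cases e' : a * b = u
            · exact Or.inr (Or.inl e')
            refine Or.inr (Or.inr ⟨⟨h.system.prod ha.1.1 hb.1.1 e (hb.2 a ha.1), e',
              (Commute.mul_right (show Commute u a from ha.1.2.2) hb.1.2.2).eq⟩, fun w hw => ?_⟩)
            exact (Commute.mul_right (show Commute w a from ha.2 w hw) (hb.2 w hw)).eq }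
  have hcardP : Nat.card P = K.ncard + 2 := by
    show Nat.card (insert (1 : G) (insert u K) : Set G) = _
    rw [Nat.card_coe_set_eq, Set.ncard_insert_of_notMem, Set.ncard_insert_of_notMem]
    · exact fun hu' => hu'.1.2.1 rfl
    · rintro (e | e)
      · exact hu1 e.symm
      · have := hD.orderOf_eq 1 e.1.1
        rw [orderOf_one] at this
        exact absurd this (by decide)
  obtain ⟨m, hm⟩ := IsPGroup.iff_card.1 (show IsPGroup 2 P from fun x => ⟨1, Subtype.ext (by
    show (x : G) ^ 2 ^ 1 = 1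
    rw [pow_one, pow_two]; exact hsq x.2)⟩)
  have hK0 : K = ∅ := by
    rw [← Set.ncard_eq_zero]
    obtain ⟨l, hl⟩ := hK4
    rw [hcardP, hl] at hm
    rcases Nat.lt_or_ge m 2 with hm2 | hm2
    · interval_cases m <;> omega
    · obtain ⟨j, rfl⟩ := Nat.exists_eq_add_of_le hm2
      rw [pow_add] at hm
      omega
  refine ⟨fun v hv => ?_, fun v hv => ?_⟩
  · obtain ⟨hne, hcases⟩ := h.cases hv
    rcases hcases with ⟨-, hall⟩ | h'
    · exact absurd (show v ∈ K from ⟨hv, hall⟩) (by rw [hK0]; exact Set.notMem_empty v)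
    · exact ⟨hne, h'⟩
  · by_contra hcon
    push Not at hcon
    exact absurd (show v ∈ K from ⟨hv, hcon⟩) (by rw [hK0]; exact Set.notMem_empty v)

private theorem Lone.flip_all [Finite G] (h : Lone D R k u) (hS : Sq D k u) :
    ∀ v ∈ others D u, ∀ w ∈ others D u, (v * w) ^ 2 = 1 ∨ (v * w) ^ 2 = u := by
  haveI : Fact (Nat.Prime 2) := ⟨Nat.prime_two⟩
  have hD := h.system.root
  have su := mul_self hD h.mem
  have ui := inv_eq hD h.mem
  set X : Set G := insert u (others D u) with hX
  have hXD : ∀ a ∈ X, a ∈ D ∧ Commute u a := by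
    rintro a (rfl | ha)
    exacts [⟨h.mem, Commute.refl _⟩, ⟨ha.1, ha.2.2⟩]
  have hmemX : ∀ a ∈ D, Commute u a → a ∈ X := fun a ha hc => by
    by_cases e : a = u
    exacts [Or.inl e, Or.inr ⟨ha, e, hc⟩]
  have hcu : ∀ g ∈ Subgroup.closure X, Commute u g := by
    intro g hg
    induction hg using Subgroup.closure_induction with
    | mem a ha => exact (hXD a ha).2
    | one => exact Commute.one_right _
    | mul a b _ _ ha hb => exact ha.mul_right hb
    | inv a _ ha => exact ha.inv_right
  have hP : IsPGroup 2 (Subgroup.closure X) := by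
    refine isPGroup_closure_of_pow_four (fun a ha => mul_self hD (hXD a ha).1)
      (fun g hg a ha => hmemX _ (hD.conj_mem a (hXD a ha).1 g) ?_) fun a ha b hb => ?_
    · exact ((hcu g hg).mul_right (hXD a ha).2).mul_right (hcu g hg).inv_right
    · rcases hD.pair a (hXD a ha).1 b (hXD b hb).1 with h1 | h1 | ⟨h1, -⟩
      · rw [show 4 = 2 * 2 from rfl, pow_mul, (show Commute a b from h1).mul_pow, pow_two a,
          pow_two b, mul_self hD (hXD a ha).1, mul_self hD (hXD b hb).1, one_mul, one_pow]
      · by_cases e : a = b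
        · rw [e, mul_self hD (hXD b hb).1, one_pow]
        · exact absurd ⟨(hXD a ha).1, (hXD b hb).1, e, h1⟩
            (h.system.not_odd h.mem (hXD a ha).2.eq (hXD b hb).2.eq)
      · rw [← h1, pow_orderOf_eq_one]
  by_contra hcon
  push Not at hcon
  obtain ⟨v₀, hv₀, w₀, hw₀, hne1, hneu⟩ := hcon
  -- squares other than `1` and `u`
  set S : Set G := {d | ∃ a ∈ others D u, ∃ b ∈ others D u,
    a * b ≠ b * a ∧ (a * b) ^ 2 = d ∧ d ≠ u} with hS'
  have hsubS : ∀ d ∈ S, d ∈ others D u := by
    rintro d ⟨a, ha, b, hb, hab, rfl, hd⟩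
    obtain ⟨hm, -, -, -, -, -⟩ := four_facts hD ha.1 hb.1
      (h.system.four_of_commute ha.1 hb.1 h.mem ha.2.2 hb.2.2 hab)
    exact ⟨hm, hd, ((Commute.mul_right (show Commute u a from ha.2.2) hb.2.2).pow_right 2).eq⟩
  have hSne : S.Nonempty := ⟨_, v₀, hv₀, w₀, hw₀, fun hc => hne1 (by
    rw [(show Commute v₀ w₀ from hc).mul_pow, pow_two, pow_two, mul_self hD hv₀.1,
      mul_self hD hw₀.1, one_mul]), rfl, hneu⟩
  obtain ⟨c, hcS, hcX⟩ := exists_bottom hP hSne
    (fun d hd => Subgroup.subset_closure (Or.inr (hsubS d hd))) (fun h1 => by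
      have := hD.orderOf_eq 1 (hsubS 1 h1).1
      rw [orderOf_one] at this
      exact absurd this (by decide))
  have hc := hsubS c hcS
  have ci := inv_eq hD hc.1
  -- conjugation by `c` multiplies members commuting with `u` by `1` or `u`
  have hflip : ∀ x ∈ others D u, c * x * c⁻¹ = x ∨ c * x * c⁻¹ = x * u := by
    intro x hx
    by_cases hcx : c * x = x * c
    · exact Or.inl (by rw [hcx, mul_inv_cancel_right])
    · have hsq : (c * x) ^ 2 = u := by
        by_contra hne
        exact hcX x (Or.inr hx) (by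
          rw [commutator_eq_sq ci (inv_eq hD hx.1)]
          exact ⟨c, hc, x, hx, hcx, rfl, hne⟩)
      right
      rw [ci, mul_conj_self (mul_self hD hx.1), ← hsq]
      congr 1
      rw [← inv_inv (x * c), mul_inv_rev, ci, inv_eq hD hx.1, inv_pow, hsq, ui]
  obtain ⟨a, ha, b, hb, -, hab, -⟩ := hcS
  set c' := k * c * k⁻¹ with hc'
  have hab' : (k * a * k⁻¹ * (k * b * k⁻¹)) ^ 2 = c' := by rw [conj_mul, conj_pow, hab]
  have ha' := h.conj_others ha
  have hb' := h.conj_others hb
  set a' := k * a * k⁻¹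
  set b' := k * b * k⁻¹
  have cab : Commute (a' * b') u :=
    (show Commute a' u from ha'.2.2.symm).mul_left hb'.2.2.symm
  have hprod : c * (a' * b') * c⁻¹ = a' * b' ∨ c * (a' * b') * c⁻¹ = a' * b' * u := by
    rw [← conj_mul]
    rcases hflip a' ha' with e | e <;> rcases hflip b' hb' with e' | e' <;> rw [e, e']
    · exact Or.inl rfl
    · exact Or.inr (mul_assoc _ _ _).symm
    · exact Or.inr (by rw [mul_assoc a' u b', hb'.2.2, ← mul_assoc a' b' u])
    · refine Or.inl ?_
      rw [hb'.2.2.symm, mul_assoc a' u (u * b'), ← mul_assoc u u b', su, one_mul]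
  have hcc' : c * c' * c⁻¹ = c' := by
    rw [← hab', ← conj_pow]
    rcases hprod with e | e <;> rw [e]
    rw [cab.mul_pow, pow_two u, su, mul_one]
  exact (hS.sq c hc).2.2.1 (mul_inv_eq_iff_eq_mul.1 hcc')

private theorem Lone.line_eq [Finite G] (h : Lone D R k u) (hS : Sq D k u) {v w : G}
    (hv : v ∈ others D u) (hw : w ∈ others D u) :
    w = v ∨ w = u * v ∨ w = k * v * k⁻¹ ∨ w = u * (k * v * k⁻¹) := by
  have hD := h.system.root
  have kk := CfsgLib.Invol.invol_mul_self h.invol
  have ki := CfsgLib.Invol.invol_inv h.invol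
  have su := mul_self hD h.mem
  have hku : k * u * k⁻¹ = u := by rw [h.comm, mul_inv_cancel_right]
  have hback : ∀ x : G, k * (k * x * k⁻¹) * k⁻¹ = x := fun x => by
    rw [ki]
    simp only [mul_assoc, kk, mul_one]
    rw [← mul_assoc k k, kk, one_mul]
  have hflip := h.flip_all hS
  -- conjugation by products of members commuting with `u`
  have key : ∀ {a b : G}, a ∈ others D u → b ∈ others D u →
      a * b * a⁻¹ = b * (b * a) ^ 2 := fun {a b} ha hb => by
    rw [inv_eq hD ha.1, mul_conj_self (mul_self hD hb.1)]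
  have hsymm : ∀ {a b : G}, a ∈ others D u → b ∈ others D u → (b * a) ^ 2 = (a * b) ^ 2 :=
    fun {a b} ha hb => by
      have e : (b * a) ^ 2 = ((a * b) ^ 2)⁻¹ := by
        rw [← inv_pow, mul_inv_rev, inv_eq hD ha.1, inv_eq hD hb.1]
      rcases hflip a ha b hb with e' | e' <;> rw [e, e']
      exacts [inv_one, inv_eq hD h.mem]
  have hcu : ∀ g ∈ Subgroup.closure (others D u), Commute u g := by
    intro g hg
    induction hg using Subgroup.closure_induction with
    | mem a ha => exact ha.2.2
    | one => exact Commute.one_right _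
    | mul a b _ _ ha hb => exact ha.mul_right hb
    | inv a _ ha => exact ha.inv_right
  have hconjP : ∀ p ∈ Subgroup.closure (others D u), ∀ x ∈ others D u,
      p * x * p⁻¹ = x ∨ p * x * p⁻¹ = x * u := by
    intro p hp
    induction hp using Subgroup.closure_induction with
    | mem a ha =>
      intro x hx
      rw [key ha hx]
      rcases hflip x hx a ha with e | e <;> rw [e]
      exacts [Or.inl (mul_one x), Or.inr rfl]
    | one => intro x _; exact Or.inl (by simp)
    | mul a b ha _ iha ihb =>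
      intro x hx
      have e : a * u * a⁻¹ = u := by rw [← (hcu a ha).eq, mul_inv_cancel_right]
      rw [show a * b * x * (a * b)⁻¹ = a * (b * x * b⁻¹) * a⁻¹ by group]
      rcases ihb x hx with e1 | e1 <;> rw [e1]
      · exact iha x hx
      · rw [← conj_mul, e]
        rcases iha x hx with e2 | e2 <;> rw [e2]
        · exact Or.inr rfl
        · exact Or.inl (by rw [mul_assoc, su, mul_one])
    | inv a ha iha =>
      intro x hx
      rcases iha x hx with e | e
      · refine Or.inl ?_
        nth_rewrite 1 [← e]; group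
      · refine Or.inr ?_
        have e1 : a * (x * u) * a⁻¹ = x := by
          rw [← conj_mul, ← (hcu a ha).eq, mul_inv_cancel_right, e, mul_assoc, su, mul_one]
        nth_rewrite 1 [← e1]; group
  obtain ⟨hne, -, hnc, hfu⟩ := hS.sq v hv
  have hv' := h.conj_others hv
  set v' := k * v * k⁻¹ with hv'def
  set f := v * v' with hf
  have cuf : Commute u f := (show Commute u v from hv.2.2).mul_right hv'.2.2
  -- `g = w w'` is `f` or `f u`
  have hg : ∀ {x : G}, x ∈ others D u →
      x * (k * x * k⁻¹) = f ∨ x * (k * x * k⁻¹) = f * u := by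
    intro x hx
    obtain ⟨-, -, -, hgu⟩ := hS.sq x hx
    have hx' := h.conj_others hx
    set x' := k * x * k⁻¹ with hx'def
    set g := x * x' with hg
    have hz : ∀ {y : G}, y ∈ others D u → y * f * y⁻¹ = f * ((v * y) ^ 2 * (v' * y) ^ 2) := by
      intro y hy
      have hc1 : Commute ((v * y) ^ 2) v' := by
        rcases hflip v hv y hy with e | e <;> rw [e]
        exacts [Commute.one_left _, hv'.2.2]
      rw [hf, ← conj_mul, key hy hv, key hy hv', mul_assoc v, ← mul_assoc ((v * y) ^ 2), hc1.eq]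
      simp only [mul_assoc]
    have he1 : (v' * x') ^ 2 = (v * x) ^ 2 := by
      rw [hv'def, hx'def, conj_mul, conj_pow]
      rcases hflip v hv x hx with e | e <;> rw [e]
      exacts [by rw [mul_one, mul_inv_cancel], hku]
    have he2 : (v * x') ^ 2 = (v' * x) ^ 2 := by
      have e3 : (v' * x) ^ 2 = k * (v * x') ^ 2 * k⁻¹ := by
        rw [← conj_pow, ← conj_mul, ← hv'def, hx'def, hback]
      rcases hflip v hv x' hx' with e | e <;> rw [e3, e]
      exacts [by rw [mul_one, mul_inv_cancel], hku.symm]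
    have hsame : x' * f * x'⁻¹ = x * f * x⁻¹ := by
      rw [hz hx', hz hx, he1, he2]
      rcases hflip v hv x hx with e | e <;> rcases hflip v' hv' x hx with e' | e' <;> rw [e, e'] <;>
        simp
    have cfg : Commute f g := by
      have e : g * f * g⁻¹ = f := by
        rw [show g * f * g⁻¹ = x * (x' * f * x'⁻¹) * x⁻¹ by rw [hg]; group, hsame, inv_eq hD hx.1]
        simp only [mul_assoc, mul_self hD hx.1, mul_one]
        rw [← mul_assoc x x, mul_self hD hx.1, one_mul]
      exact (mul_inv_eq_iff_eq_mul.1 e).symm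
    have f2 : f * f = u := by rw [← pow_two]; exact hfu
    have g2 : g * g = u := by rw [← pow_two]; exact hgu
    set j := f * g with hj
    have jj : j * j = 1 := by rw [hj, cfg.symm.mul_mul_mul_comm, f2, g2, su]
    have finv : f⁻¹ = f * u := inv_eq_of_mul_eq_one_right (by rw [← mul_assoc, f2, su])
    have gfix : j = u → g = f := fun e => by
      have : g = f⁻¹ * u := by rw [← e, hj, inv_mul_cancel_left]
      rw [this, finv, mul_assoc, su, mul_one]
    by_cases j1 : j = 1
    · exact Or.inr (by rw [← finv]; exact eq_inv_of_mul_eq_one_right j1)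
    have cug : Commute u g := (show Commute u x from hx.2.2).mul_right hx'.2.2
    have cuj : Commute u j := cuf.mul_right cug
    have kf : k * f * k⁻¹ = f * u := by
      rw [← finv, hf, ← conj_mul, ← hv'def, hv'def, hback, mul_inv_rev, inv_eq hD hv'.1,
        inv_eq hD hv.1]
    have kg : k * g * k⁻¹ = g * u := by
      have ginv : g⁻¹ = g * u := inv_eq_of_mul_eq_one_right (by rw [← mul_assoc, g2, su])
      rw [← ginv, hg, ← conj_mul, ← hx'def, hx'def, hback, mul_inv_rev, inv_eq hD hx'.1,
        inv_eq hD hx.1]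
    have kj : k * j = j * k := mul_inv_eq_iff_eq_mul.1 (by
      rw [hj, ← conj_mul, kf, kg, mul_assoc f, ← mul_assoc u g, cug.eq, mul_assoc g, su, mul_one])
    by_cases jD : j ∈ D
    · exact Or.inl (gfix (h.eq_of_commute jD h.mem kj h.comm cuj.symm.eq))
    have jo : orderOf j = 2 := CfsgLib.Invol.invol_iff.2 ⟨jj, j1⟩
    have hjP : j ∈ Subgroup.closure (others D u) := mul_mem
      (mul_mem (Subgroup.subset_closure hv) (Subgroup.subset_closure hv'))
      (mul_mem (Subgroup.subset_closure hx) (Subgroup.subset_closure hx'))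
    by_cases hall : ∀ y ∈ others D u, j * y * j⁻¹ = y
    · exact absurd (h.hind j jo jD ⟨u, h.mem, v, hv.1, Ne.symm hv.2.1, hv.2.2, cuj.symm.eq,
        mul_inv_eq_iff_eq_mul.1 (hall v hv)⟩ v hv.1 v' hv'.1 (mul_inv_eq_iff_eq_mul.1 (hall v hv))
        (mul_inv_eq_iff_eq_mul.1 (hall v' hv')) (h.system.rel.trans
          (h.system.rel.of_commute hv.1 h.mem hv.2.2.symm)
          (h.system.rel.of_commute h.mem hv'.1 hv'.2.2))) hnc
    push Not at hall
    obtain ⟨y, hy, hjy⟩ := hall
    have hyu := (hconjP j hjP y hy).resolve_left hjy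
    obtain ⟨z, hz', hzy⟩ := hS.noncentral y hy
    exfalso
    refine hzy (h.system.commute_of_flip h.hind jo jD hy.1 hyu (fun e => hjy (hyu.trans e)) ?_ ?_
      hz'.1 hz'.2.2.symm)
    · exact ((Commute.refl y).mul_right (show Commute y u from hy.2.2.symm)).eq
    · rw [← mul_assoc, mul_self hD hy.1, one_mul]
  -- commuting members lie in one pair
  have hpairs : ∀ {x : G}, x ∈ others D u → ∀ y ∈ others D u,
      x * (k * x * k⁻¹) = y * (k * y * k⁻¹) ∨ x * (k * x * k⁻¹) = y * (k * y * k⁻¹) * u := by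
    intro x hx y hy
    rcases hg hx with e | e <;> rcases hg hy with e' | e' <;> rw [e, e']
    · exact Or.inl rfl
    · exact Or.inr (by rw [mul_assoc, su, mul_one])
    · exact Or.inr rfl
    · exact Or.inl rfl
  have hcommute : ∀ {a b : G}, a ∈ others D u → b ∈ others D u → a * b = b * a →
      b = a ∨ b = u * a := by
    intro a b ha hb hab
    by_contra hne2
    push Not at hne2
    have hy : b * a ∈ others D u := ⟨h.system.prod hb.1 ha.1 hne2.1 hab.symm,
      fun e => hne2.2 (by rw [← e, mul_assoc, mul_self hD ha.1, mul_one]),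
      ((show Commute u b from hb.2.2).mul_right ha.2.2).eq⟩
    have key' : ∀ z, b * (k * b * k⁻¹) = a * (k * a * k⁻¹) * z → Commute z (k * a * k⁻¹) →
        k * (b * a) * k⁻¹ = b * a * z := fun z e hzc => by
      have e1 : k * b * k⁻¹ = b * (a * (k * a * k⁻¹) * z) := by
        rw [← e, ← mul_assoc, mul_self hD hb.1, one_mul]
      rw [← conj_mul, e1]
      rw [mul_assoc b (a * (k * a * k⁻¹) * z), mul_assoc (a * (k * a * k⁻¹)) z, hzc.eq,
        ← mul_assoc (a * (k * a * k⁻¹)), mul_assoc a (k * a * k⁻¹) (k * a * k⁻¹),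
        mul_self hD (h.conj_others ha).1, mul_one, mul_assoc b a z]
    obtain ⟨h1, h2, -, -⟩ := hS.sq _ hy
    rcases hpairs hb a ha with e | e
    · exact h1 ((key' 1 (by rw [mul_one]; exact e) (Commute.one_left _)).trans (mul_one _))
    · exact h2 ((key' u e (h.conj_others ha).2.2).trans hy.2.2.symm)
  by_contra hcon
  push Not at hcon
  obtain ⟨n1, n2, n3, n4⟩ := hcon
  have e1 : (v * w) ^ 2 = u := by
    refine (hflip v hv w hw).resolve_left fun e => ?_
    have hc : v * w = w * v := (inv_eq_of_mul_eq_one_right ((pow_two _).symm.trans e)).symm.trans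
      (by rw [mul_inv_rev, inv_eq hD hw.1, inv_eq hD hv.1])
    rcases hcommute hv hw hc with e' | e' <;> contradiction
  have e2 : (v' * w) ^ 2 = u := by
    refine (hflip v' hv' w hw).resolve_left fun e => ?_
    have hc : v' * w = w * v' := (inv_eq_of_mul_eq_one_right ((pow_two _).symm.trans e)).symm.trans
      (by rw [mul_inv_rev, inv_eq hD hw.1, inv_eq hD hv'.1])
    rcases hcommute hv' hw hc with e' | e' <;> contradiction
  have cwf : Commute w f := by
    refine mul_inv_eq_iff_eq_mul.1 ?_
    rw [hf, ← conj_mul, key hw hv, key hw hv', e1, e2, mul_assoc v, ← mul_assoc u, hv'.2.2,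
      mul_assoc v', su, mul_one]
  have cwg : Commute w (w * (k * w * k⁻¹)) := by
    rcases hg hw with e | e <;> rw [e]
    exacts [cwf, cwf.mul_right hw.2.2.symm]
  refine (hS.sq w hw).2.2.1 ?_
  have := cwg.eq
  rw [← mul_assoc, mul_self hD hw.1, one_mul] at this
  nth_rewrite 2 [this]
  rw [mul_assoc (w * (k * w * k⁻¹)), mul_self hD hw.1, mul_one]

/-- **An involution outside `D` centralises two commuting members with each member.** -/
theorem exists_commute_two [Finite G] (hB : IsBlockSystem D R)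
    (hind : ∀ i : G, orderOf i = 2 → i ∉ D →
      (∃ u ∈ D, ∃ v ∈ D, u ≠ v ∧ u * v = v * u ∧ i * u = u * i ∧ i * v = v * i) →
      ∀ a ∈ D, ∀ b ∈ D, i * a = a * i → i * b = b * i → R a b → a * b = b * a)
    (htwo : ∀ i : G, orderOf i = 2 → i ∉ D → TwoBlocks D R i)
    {k u : G} (hk : orderOf k = 2) (hkD : k ∉ D) (hu : u ∈ D) (hku : k * u = u * k) :
    ∃ v ∈ D, v ≠ u ∧ u * v = v * u ∧ k * v = v * k := by
  by_contra hcon
  have h : Lone D R k u := ⟨hB, hind, htwo, hk, hkD, hu, hku, fun v hv hne hc hkv =>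
    hcon ⟨v, hv, hne, hc, hkv⟩⟩
  have hD := hB.root
  have hcl := hB.rel.isRootInvolutionClass hD
  obtain ⟨v, hvD, hvu, hvc⟩ := hB.partner hu
  have hv : v ∈ others D u := ⟨hvD, hvu, hvc⟩
  have hperfect := commutator_eq_top hcl hu hvD (hB.prod hu hvD (Ne.symm hvu) hvc)
  have hS := h.sq_facts (h.four_dvd_others hperfect).2
  have hv' := h.conj_others hv
  obtain ⟨hne, hneu, -, -⟩ := hS.sq v hv
  set v' := k * v * k⁻¹ with hv'def
  have su := mul_self hD hu
  have kk := CfsgLib.Invol.invol_mul_self hk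
  have hu1 : u ≠ 1 := fun e => by
    have := hD.orderOf_eq u hu
    rw [e, orderOf_one] at this
    exact absurd this (by decide)
  have hu' : ∀ x : G, u * (u * x) = x := fun x => by rw [← mul_assoc, su, one_mul]
  -- the swaps of the pairs
  let Ω := {p : G × Set G // IsLinePoint D p}
  letI : MulAction G Ω :=
    { smul := fun g p => ⟨(g * p.1.1 * g⁻¹, (fun x => g * x * g⁻¹) '' p.1.2), by
        obtain ⟨a, ha, b, hb, hab, hc, hp⟩ := p.2
        refine ⟨_, hD.conj_mem a ha g, _, hD.conj_mem b hb g, fun e => hab (conj_injective g e),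
          (conj_comm_iff g).2 hc, ?_⟩
        rw [hp, Set.image_pair, conj_mul]⟩
      one_smul := fun p => Subtype.ext (by
        show (1 * p.1.1 * 1⁻¹, (fun x => 1 * x * 1⁻¹) '' p.1.2) = p.1
        simp)
      mul_smul := fun g g' p => Subtype.ext (by
        show (g * g' * p.1.1 * (g * g')⁻¹, (fun x => g * g' * x * (g * g')⁻¹) '' p.1.2) =
          (g * (g' * p.1.1 * g'⁻¹) * g⁻¹, (fun x => g * x * g⁻¹) '' ((fun x => g' * x * g'⁻¹) '' p.1.2))
        refine Prod.ext (by group) ?_
        rw [Set.image_image]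
        refine Set.image_congr fun x _ => ?_
        group) }
  have hfib : Nat.card {p : Ω // p.1.1 = u} = 2 := by
    rw [Nat.card_eq_two_iff]
    refine ⟨⟨⟨(u, {v, u * v}), u, hu, v, hvD, Ne.symm hvu, hvc, rfl⟩, rfl⟩,
      ⟨⟨(u, {v', u * v'}), u, hu, v', hv'.1, Ne.symm hv'.2.1, hv'.2.2, rfl⟩, rfl⟩, fun e => ?_, ?_⟩
    · have h1 : ({v, u * v} : Set G) = {v', u * v'} :=
        congrArg (fun p : {p : Ω // p.1.1 = u} => p.1.1.2) e
      have h2 : v' ∈ ({v, u * v} : Set G) := h1 ▸ Set.mem_insert _ _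
      rcases h2 with h2 | h2
      exacts [hne h2, hneu h2]
    · refine Set.eq_univ_of_forall fun p => ?_
      obtain ⟨⟨⟨a, T⟩, a', ha', b, hb, hab, hc, hp⟩, hpu⟩ := p
      change a = u at hpu
      obtain ⟨rfl, rfl⟩ := Prod.mk.injEq .. ▸ hp
      subst hpu
      have hb' : b ∈ others D a := ⟨hb, Ne.symm hab, hc⟩
      rcases h.line_eq hS hv hb' with e | e | e | e <;> subst e
      · exact Or.inl rfl
      · refine Or.inl (Subtype.ext (Subtype.ext (Prod.ext rfl ?_)))
        show ({a * v, a * (a * v)} : Set G) = {v, a * v}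
        rw [hu', Set.pair_comm]
      · exact Or.inr rfl
      · refine Or.inr (Subtype.ext (Subtype.ext (Prod.ext rfl ?_)))
        show ({a * v', a * (a * v')} : Set G) = {v', a * v'}
        rw [hu', Set.pair_comm]
  have hcard : Nat.card Ω = Nat.card D * 2 := by
    rw [card_eq_mul_fibre (Ω := Ω) (fun p => p.1.1) (fun p => ?_) (fun g p => rfl) hu hcl, hfib]
    obtain ⟨a, ha, b, -, -, -, hp⟩ := p.2
    rw [hp]; exact ha
  have hmove : ∀ p : Ω, k • p ≠ p := by
    intro p hfix
    obtain ⟨a, ha, b, hb, hab, hc, hp⟩ := p.2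
    have h1 : k * p.1.1 * k⁻¹ = p.1.1 := congrArg (fun x : Ω => x.1.1) hfix
    have h2 : (fun x => k * x * k⁻¹) '' p.1.2 = p.1.2 := congrArg (fun x : Ω => x.1.2) hfix
    rw [hp] at h1 h2
    have hka : k * a = a * k := mul_inv_eq_iff_eq_mul.1 h1
    have h3 : k * b * k⁻¹ ∈ ({b, a * b} : Set G) :=
      h2.subset (Set.mem_image_of_mem (fun x => k * x * k⁻¹) (Set.mem_insert b {a * b}))
    rcases h3 with h3 | h3
    · exact hab (h.eq_of_commute ha hb hka (mul_inv_eq_iff_eq_mul.1 h3) hc)
    · obtain ⟨g, hg, hgu⟩ := hB.rel.conj_in_centralizer hD (htwo k hk hkD) ha hu hka hku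
      have hgb : g * b * g⁻¹ ∈ others D u := ⟨hD.conj_mem b hb g,
        fun e => hab (conj_injective g (hgu.trans e.symm)), hgu ▸ (conj_comm_iff g).2 hc⟩
      refine (hS.sq _ hgb).2.1 ?_
      rw [← hgu, conj_mul, ← Set.mem_singleton_iff.1 h3,
        show k * (g * b * g⁻¹) * k⁻¹ = k * g * b * (k * g)⁻¹ by group, ← hg.eq]
      group
  obtain ⟨hDodd, -⟩ := h.four_dvd_others hperfect
  have h4 := four_dvd_card_moved (Ω := Ω) hperfect kk
  rw [Nat.card_congr (Equiv.subtypeUnivEquiv hmove), hcard] at h4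
  obtain ⟨m, hm⟩ := hDodd
  obtain ⟨n, hn⟩ := h4
  omega

end IsBlockSystem

end CfsgLib.RootInvol
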