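import Cfsg.Agent.Lib.RootSub.Blocks.Descent
import Cfsg.Agent.Lib.RootSub.Blocks.Single

/-!
# The block theorem for root involutions

If root involutions carry an invariant equivalence containing commuting with at least two classes, every
member commutes with another and commuting members multiply into the set, then each class commutes.
-/

set_option autoImplicit false

namespace CfsgLib.RootInvol

universe u

theorem blocksCommuteBelow (n : ℕ) : BlocksCommuteBelow.{u} n := by
  induction n with
  | zero => exact fun H _ _ D R h => absurd h (Nat.not_lt_zero _)
  | succ n ih =>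
    intro H _ _ D R h hB a ha b hb hab
    have ih' : BlocksCommuteBelow.{u} (Nat.card H) := fun K _ _ D' R' hK =>
      ih K D' R' (lt_of_lt_of_le hK (Nat.lt_succ_iff.1 h))
    rcases hB.isFaithful_or_commute ih' with hf | hc
    · refine hB.commute_of_step hf ih' (fun k u hk hkD hu hku => ?_) ha hb hab
      exact hB.exists_commute_two (fun i hi hiD hp => hB.commute_in_centralizer hf ih' hi hiD hp)
        (fun i hi hiD => hB.rel.twoBlocks hf hB.root hi hiD) hk hkD hu hku
    · exact hc a ha b hb hab

/-- **The block theorem.** -/
theorem IsBlockSystem.commute_of_rel {G : Type u} [Group G] [Finite G] {D : Set G}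
    {R : G → G → Prop} (hB : IsBlockSystem D R) {a b : G} (ha : a ∈ D) (hb : b ∈ D) (h : R a b) :
    a * b = b * a :=
  blocksCommuteBelow.{u} (Nat.card G + 1) G D R (Nat.lt_succ_self _) hB a ha b hb h

end CfsgLib.RootInvol
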