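import Cfsg.Agent.Lib.RootSub.Blocks.Components

/-!
# The product graph of a non-degenerate class of root involutions is connected, given the block theorem

A minimal counterexample to "a component with a member of odd product outside is commutative" carries
a faithful block system whose blocks are spanned by the components, and so contradicts the block
theorem.
-/

set_option autoImplicit false
set_option linter.unusedSectionVars false

namespace CfsgLib.RootInvol

universe u

/-- The block theorem. -/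
def BlocksCommute : Prop :=
  ∀ (X : Type u) [Group X] [Finite X] (D : Set X) (R : X → X → Prop), IsBlockSystem D R →
    ∀ a ∈ D, ∀ b ∈ D, R a b → a * b = b * a

/-- Members joined by a product of order four have no odd partner outside their component, in all
groups of order below `n`. -/
def FourInsideBelow (n : ℕ) : Prop :=
  ∀ (X : Type u) [Group X] [Finite X] (D : Set X), Nat.card X < n → Cfsg.IsRootInvolutionSet D →
    ∀ t ∈ D, ∀ s ∈ D, ∀ x, orderOf (t * s) = 4 → Cfsg.OddAdj D t x → SameComp D t x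

variable {G : Type u} [Group G] [Finite G] {D : Set G}

/-- A proper subgroup contains no configuration. -/
theorem sameComp_of_subgroup (hD : Cfsg.IsRootInvolutionSet D)
    (ih : FourInsideBelow.{u} (Nat.card G)) {K : Subgroup G} (hK : K ≠ ⊤) {t s x : G} (hs : s ∈ D)
    (htK : t ∈ K) (hsK : s ∈ K) (hxK : x ∈ K) (h4 : orderOf (t * s) = 4)
    (hx : Cfsg.OddAdj D t x) : SameComp D t x := by
  set K' := Subgroup.closure (D ∩ (K : Set G)) with hK'
  have hle : K' ≤ K := (Subgroup.closure_le _).2 Set.inter_subset_right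
  have hlt : Nat.card K' < Nat.card G := by
    refine lt_of_le_of_ne (Subgroup.card_le_card_group K') fun e => hK (top_le_iff.1 ?_)
    exact (Subgroup.card_eq_iff_eq_top K').1 e ▸ hle
  have h := ih K' (Subtype.val ⁻¹' (D ∩ K)) hlt (restrict_root hD K)
    ⟨t, Subgroup.subset_closure ⟨hx.1, htK⟩⟩ ⟨hx.1, htK⟩
    ⟨s, Subgroup.subset_closure ⟨hs, hsK⟩⟩ ⟨hs, hsK⟩
    ⟨x, Subgroup.subset_closure ⟨hx.2.1, hxK⟩⟩
    (by rw [← Subgroup.orderOf_coe]; exact h4)
    ⟨⟨hx.1, htK⟩, ⟨hx.2.1, hxK⟩, fun e => hx.2.2.1 (congrArg Subtype.val e),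
      by rw [← Subgroup.orderOf_coe]; exact hx.2.2.2⟩
  exact h.lift Subtype.val fun a b hab => ⟨hab.1.1, hab.2.1.1, fun e => hab.2.2.1 (Subtype.ext e),
    congrArg Subtype.val hab.2.2.2.1, hab.2.2.2.2.1⟩

/-- In the same component, or commuting. -/
def Near (D : Set G) (a b : G) : Prop := a ∈ D ∧ b ∈ D ∧ (SameComp D a b ∨ a * b = b * a)

/-- In a minimal configuration with all members conjugate the components span blocks. -/
theorem near_isBlockRel (hD : Cfsg.IsRootInvolutionSet D) (ih : FourInsideBelow.{u} (Nat.card G))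
    {t s x : G} (hs : s ∈ D) (h4 : orderOf (t * s) = 4) (hx : Cfsg.OddAdj D t x)
    (hout : ¬ SameComp D t x) (hcl : ∀ a ∈ D, ∃ g : G, a = g * t * g⁻¹) :
    IsBlockRel D (Near D) where
  refl ha := ⟨ha, ha, Or.inl Relation.ReflTransGen.refl⟩
  symm := fun ⟨ha, hb, h⟩ => ⟨hb, ha, h.imp sameComp_symm Eq.symm⟩
  conj g := fun ⟨ha, hb, h⟩ => ⟨hD.conj_mem _ ha g, hD.conj_mem _ hb g,
    h.imp (fun h' => sameComp_conj hD h' g) (conj_comm_iff g).2⟩
  of_commute ha hb h := ⟨ha, hb, Or.inr h⟩
  ne_univ := ⟨t, hx.1, x, hx.2.1, fun h => h.2.2.elim hout (not_commute_of_oddAdj hD hx)⟩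
  trans := by
    rintro u v w ⟨hu, hv, huv⟩ ⟨-, hw, hvw⟩
    refine ⟨hu, hw, ?_⟩
    by_cases h1 : SameComp D u v
    · by_cases h2 : SameComp D v w
      · exact Or.inl (h1.trans h2)
      · exact Or.inr (commute_of_sameComp hD hw (sameComp_symm h1) h2 (hvw.resolve_left h2))
    have huv' := huv.resolve_left h1
    by_cases h2 : SameComp D v w
    · exact Or.inr (commute_of_sameComp hD hu h2 (fun h => h1 (sameComp_symm h)) huv'.symm).symm
    have hvw' := hvw.resolve_left h2
    by_cases h3 : SameComp D u w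
    · exact Or.inl h3
    rcases commute_or_oddAdj hD hu hw h3 with hc | hodd
    · exact Or.inr hc
    obtain ⟨g, hg⟩ := hcl u hu
    have h4' : orderOf (u * (g * s * g⁻¹)) = 4 := by
      rw [hg, show g * t * g⁻¹ * (g * s * g⁻¹) = MulAut.conj g (t * s) by
        rw [MulAut.conj_apply]; group, MulEquiv.orderOf_eq]
      exact h4
    have hs' := hD.conj_mem s hs g
    have hne : Subgroup.centralizer ({v} : Set G) ≠ ⊤ := fun e => by
      obtain ⟨k, hk⟩ := hcl v hv
      refine not_commute_of_oddAdj hD (adj_conj' hD hx k) ?_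
      rw [← hk]
      exact (Subgroup.mem_centralizer_singleton_iff.1
        (e ▸ Subgroup.mem_top (k * x * k⁻¹))).symm
    refine absurd (sameComp_of_subgroup hD ih hne hs'
      (Subgroup.mem_centralizer_singleton_iff.2 huv')
      (Subgroup.mem_centralizer_singleton_iff.2 ?_)
      (Subgroup.mem_centralizer_singleton_iff.2 hvw'.symm) h4' hodd) h3
    exact commute_of_sameComp hD hv (sameComp_of_four hD hu hs' h4') h1 huv'

/-- The induction step with all members conjugate. -/
theorem false_of_class (box : BlocksCommute.{u}) (hD : Cfsg.IsRootInvolutionSet D)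
    (ih : FourInsideBelow.{u} (Nat.card G)) {t s x : G} (hs : s ∈ D) (h4 : orderOf (t * s) = 4)
    (hx : Cfsg.OddAdj D t x) (hout : ¬ SameComp D t x)
    (hcl : ∀ a ∈ D, ∃ g : G, a = g * t * g⁻¹) : False := by
  have hR := near_isBlockRel hD ih hs h4 hx hout hcl
  -- the kernel of the action on the blocks
  set N : Subgroup G := ⨅ e : D, hR.stab (e : G) e.2 with hN
  have hmem : ∀ g, g ∈ N ↔ ∀ e ∈ D, Near D (g * e * g⁻¹) e := fun g => by
    rw [hN, Subgroup.mem_iInf, Subtype.forall]
    rfl
  haveI hNn : N.Normal := ⟨fun n hn g => (hmem _).2 fun e he => by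
    have h1 := (hmem n).1 hn _ (hD.conj_mem e he g⁻¹)
    have h2 := hR.conj g h1
    simpa [mul_assoc] using h2⟩
  have hND : ∀ a ∈ D, a ∉ N := fun a ha h => by
    obtain ⟨b, hb, hab⟩ := hR.exists_not_rel ha
    exact hab (hR.rel_of_fix hD ha hb ((hmem a).1 h b hb))
  have hfaith : IsFaithfulBlocks D (Near D) := by
    intro g hg
    by_contra hg1
    set π := QuotientGroup.mk' N with hπ
    have hD' := image_root hD N hND
    have hlt : Nat.card (G ⧸ N) < Nat.card G := by
      rw [Subgroup.card_eq_card_quotient_mul_card_subgroup N]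
      haveI : Nontrivial N := ⟨⟨⟨g, (hmem g).2 hg⟩, 1, fun e => hg1 (congrArg Subtype.val e)⟩⟩
      exact lt_mul_of_one_lt_right Nat.card_pos Finite.one_lt_card
    have hker : ∀ a ∈ D, ∀ b ∈ D, π a = π b → Near D b a := fun a ha b hb e => by
      have hn : b * a⁻¹ ∈ N := (QuotientGroup.eq_one_iff _).1 (by
        show π (b * a⁻¹) = 1
        rw [map_mul, map_inv, e, mul_inv_cancel])
      refine hR.rel_of_fix hD hb ha ?_
      have := (hmem _).1 hn a ha
      simpa [mul_assoc] using this
    have h4' : orderOf (π t * π s) = 4 := by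
      have hm := (four_facts hD hx.1 hs h4).1
      rw [← map_mul]
      refine orderOf_eq_prime_pow (p := 2) (n := 1) ?_ ?_
      · rw [pow_one, ← map_pow]
        exact fun e => hND _ hm ((QuotientGroup.eq_one_iff _).1 e)
      · rw [show (2 : ℕ) ^ (1 + 1) = orderOf (t * s) by rw [h4]; norm_num, ← map_pow,
          pow_orderOf_eq_one, map_one]
    have hodd' : ∀ a ∈ D, ∀ b ∈ D, ¬ Near D a b → Cfsg.OddAdj (π '' D) (π a) (π b) := by
      intro a ha b hb hab
      refine ⟨⟨a, ha, rfl⟩, ⟨b, hb, rfl⟩, fun e => hab (hR.symm (hker a ha b hb e)), ?_⟩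
      rw [← map_mul]
      exact (hR.cross_odd hD ha hb hab).2.2.2.of_dvd_nat (orderOf_map_dvd _ _)
    have hnot : ¬ Near D t x := fun h => h.2.2.elim hout (not_commute_of_oddAdj hD hx)
    have hcomp : ∀ q, SameComp (π '' D) (π t) q → ∀ a ∈ D, π a = q → Near D t a := by
      intro q hq
      induction hq with
      | refl => exact fun a ha e => hR.symm (hker t hx.1 a ha e.symm)
      | @tail c e _ hce ih' =>
        intro a ha hae
        obtain ⟨c', hc', rfl⟩ := hce.1
        by_contra hta
        have hca : ¬ Near D c' a := fun h => hta (hR.trans (ih' c' hc' rfl) h)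
        have h1 := hodd' c' hc' a ha hca
        rw [hae] at h1
        exact not_commute_of_oddAdj hD' h1 hce.2.2.2.1
    exact hnot (hcomp _ (ih (G ⧸ N) (π '' D) hlt hD' (π t) ⟨t, hx.1, rfl⟩ (π s) ⟨s, hs, rfl⟩ (π x)
      h4' (hodd' t hx.1 x hx.2.1 hnot)) x hx.2.1 rfl)
  have hB : IsBlockSystem D (Near D) :=
    ⟨hD, hR, fun ha hb hne hc => hR.prod_mem hfaith hD ha hb hne hc, fun {a} ha => by
      obtain ⟨g, rfl⟩ := hcl a ha
      obtain ⟨⟨-, hc, hne, hcomm, -⟩, -⟩ := prodAdj_sq hD hx.1 hs h4
      exact ⟨_, hD.conj_mem _ hc g, fun e => hne (mul_left_cancel (mul_right_cancel e)).symm,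
        (conj_comm_iff g).2 hcomm⟩⟩
  exact not_commute_of_four hD hx.1 hs h4
    (box G D (Near D) hB t hx.1 s hs ⟨hx.1, hs, Or.inl (sameComp_of_four hD hx.1 hs h4)⟩)

/-- The induction step. -/
theorem fourInside_step (box : BlocksCommute.{u}) (hD : Cfsg.IsRootInvolutionSet D)
    (ih : FourInsideBelow.{u} (Nat.card G)) {t s x : G} (hs : s ∈ D) (h4 : orderOf (t * s) = 4)
    (hx : Cfsg.OddAdj D t x) : SameComp D t x := by
  by_contra hout
  have hsx : Cfsg.OddAdj D s x :=
    oddAdj_of_sameComp hD (sameComp_of_four hD hx.1 hs h4) hx hout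
  -- the three members generate
  have htop : Subgroup.closure ({t, s, x} : Set G) = ⊤ := by
    by_contra hK
    exact hout (sameComp_of_subgroup hD ih hK hs (Subgroup.subset_closure (by simp))
      (Subgroup.subset_closure (by simp)) (Subgroup.subset_closure (by simp)) h4 hx)
  -- the class of `t`
  set C : Set G := {a | ∃ g : G, a = g * t * g⁻¹} with hC
  have hCD : C ⊆ D := by
    rintro _ ⟨g, rfl⟩
    exact hD.conj_mem t hx.1 g
  have hxC : x ∈ C := conj_of_odd hD hx.1 hx.2.1 hx.2.2.2
  have hCconj : ∀ a ∈ C, ∀ g : G, g * a * g⁻¹ ∈ C := by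
    rintro _ ⟨k, rfl⟩ g
    exact ⟨g * k, by group⟩
  have hcompC : ∀ e, SameComp D t e → e ∈ C := by
    intro e he
    obtain ⟨k, hk⟩ := conj_of_odd hD hx.2.1 (sameComp_mem hx.1 he)
      (oddAdj_symm hD (oddAdj_of_sameComp hD he hx hout)).2.2.2
    rw [hk]
    exact hCconj x hxC k
  have hcl : ∀ a ∈ C, ∀ e, SameComp D a e → e ∈ C := by
    rintro _ ⟨g, rfl⟩ e he
    have h1 := sameComp_conj hD he g⁻¹
    rw [show g⁻¹ * (g * t * g⁻¹) * g⁻¹⁻¹ = t by group] at h1
    have h2 := hCconj _ (hcompC _ h1) g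
    rwa [show g * (g⁻¹ * e * g⁻¹⁻¹) * g⁻¹ = e by group] at h2
  have hsC : s ∈ C := hcompC s (sameComp_of_four hD hx.1 hs h4)
  have htC : t ∈ C := ⟨1, by group⟩
  have hroot : Cfsg.IsRootInvolutionSet C := by
    refine ⟨fun a ha => hD.orderOf_eq a (hCD ha), ?_, fun a ha g => hCconj a ha g,
      fun a ha b hb => ?_⟩
    · refine top_le_iff.1 (htop.symm.le.trans (Subgroup.closure_mono ?_))
      rintro e (rfl | rfl | rfl)
      exacts [htC, hsC, hxC]
    · rcases hD.pair a (hCD ha) b (hCD hb) with h | h | ⟨h, -⟩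
      · exact Or.inl h
      · exact Or.inr (Or.inl h)
      · exact Or.inr (Or.inr ⟨h, hcl a ha _
          (Relation.ReflTransGen.single (prodAdj_sq hD (hCD ha) (hCD hb) h).1)⟩)
  refine false_of_class box hroot ih hsC h4 ⟨htC, hxC, hx.2.2.1, hx.2.2.2⟩ (fun h => hout ?_)
    fun a ha => ha
  exact h.lift id fun a b hab =>
    ⟨hCD hab.1, hCD hab.2.1, hab.2.2.1, hab.2.2.2.1, hCD hab.2.2.2.2⟩

/-- Members joined by a product of order four have no odd partner outside their component. -/
theorem fourInside (box : BlocksCommute.{u}) (n : ℕ) : FourInsideBelow.{u} n := by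
  induction n using Nat.strong_induction_on with
  | _ n ih =>
    intro X _ _ D hlt hD t _ s hs x h4 hx
    exact fourInside_step box hD (ih _ hlt) hs h4 hx

/-- A component with a member of odd product outside is commutative. -/
theorem commute_of_component' (box : BlocksCommute.{u}) (hD : Cfsg.IsRootInvolutionSet D) {d x : G}
    (hx : Cfsg.OddAdj D d x) (hout : ¬ SameComp D d x) {a b : G} (ha : SameComp D d a)
    (hb : SameComp D d b) : a * b = b * a := by
  by_contra hnc
  obtain ⟨e, he, h4⟩ := exists_four hD (sameComp_mem hx.1 ha) ((sameComp_symm ha).trans hb) hnc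
  exact hout (ha.trans (fourInside box (Nat.card G + 1) G D (Nat.lt_succ_self _) hD a
    (sameComp_mem hx.1 ha) e (sameComp_mem hx.1 (ha.trans he)) x h4
    (oddAdj_of_sameComp hD ha hx hout)))

/-- The product graph of a non-degenerate class is connected. -/
theorem prodAdj_connected' (box : BlocksCommute.{u}) (hD : Cfsg.IsNondegenerateRootInvolutionSet D)
    (hcl : Cfsg.IsRootInvolutionClass D) : Cfsg.IsConnectedSet (Cfsg.ProdAdj D) D := by
  intro d hd y hy
  obtain ⟨a, ha, b, hb, h4⟩ := hD.2.2.2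
  obtain ⟨g, rfl⟩ := hcl.2.2 a ha d hd
  set d := g * a * g⁻¹ with hd'
  have hb' := hD.1.conj_mem b hb g
  have h4' : orderOf (d * (g * b * g⁻¹)) = 4 := by
    rw [hd', show g * a * g⁻¹ * (g * b * g⁻¹) = MulAut.conj g (a * b) by
      rw [MulAut.conj_apply]; group, MulEquiv.orderOf_eq]
    exact h4
  have hbd := sameComp_of_four hD.1 hd hb' h4'
  have hnot : ∀ v, Cfsg.OddAdj D d v → SameComp D d v := fun v hv => by
    by_contra hout
    exact not_commute_of_four hD.1 hd hb' h4'
      (commute_of_component' box hD.1 hv hout Relation.ReflTransGen.refl hbd)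
  -- the stabiliser of the component
  let K : Subgroup G :=
    { carrier := {k | SameComp D d (k * d * k⁻¹)}
      one_mem' := by simpa using (Relation.ReflTransGen.refl : SameComp D d d)
      mul_mem' := fun {k l} hk hl => by
        refine Relation.ReflTransGen.trans hk ?_
        have := sameComp_conj hD.1 hl k
        simpa [mul_assoc] using this
      inv_mem' := fun {k} hk => by
        have := sameComp_symm (sameComp_conj hD.1 hk k⁻¹)
        simpa [mul_assoc] using this }
  have hK : (⊤ : Subgroup G) ≤ K := by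
    rw [← hD.1.generates, Subgroup.closure_le]
    intro v hv
    show SameComp D d (v * d * v⁻¹)
    by_cases hdv : SameComp D d v
    · have h1 := sameComp_conj hD.1 hdv v
      rw [mul_inv_cancel_right] at h1
      exact hdv.trans (sameComp_symm h1)
    · rw [show v * d * v⁻¹ = d by
        rw [← (commute_or_oddAdj hD.1 hd hv hdv).resolve_right fun h => hdv (hnot v h),
          mul_inv_cancel_right]]
  obtain ⟨k, rfl⟩ := hcl.2.2 d hd y hy
  exact hK (Subgroup.mem_top k)

end CfsgLib.RootInvol
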